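import Mathlib.Tactic
import Mathlib.Algebra.Order.BigOperators.Group.Finset

/-!
# Integral columns for two Klein sections

Two families of four orthogonal integral columns of norm four, with inner products one between the
families and common row sums, satisfying the positivity bound of the regular part, have sixteen or
eight rows.
-/

set_option autoImplicit false

namespace CfsgLib.SixteenNine

open Finset

/-- The data of the columns, with positive row sums. -/
structure Cols (ι : Type*) [Fintype ι] where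
  w : ι → ℤ
  s : ι → Fin 4 → ℤ
  t : ι → Fin 4 → ℤ
  w_pos : ∀ x, 0 < w x
  sum_s : ∀ x, ∑ i, s x i = w x
  sum_t : ∀ x, ∑ i, t x i = w x
  gram_s : ∀ i j, ∑ x, s x i * s x j = if i = j then 4 else 0
  gram_t : ∀ i j, ∑ x, t x i * t x j = if i = j then 4 else 0
  cross : ∀ i j, ∑ x, s x i * t x j = 1
  bound : ∀ x, 4 * ∑ i, s x i ^ 2 + 4 * ∑ i, t x i ^ 2 < 16 + w x ^ 2

variable {ι : Type*} [Fintype ι] (D : Cols ι)

/-- The squared norm of a row. -/
def nsq (v : Fin 4 → ℤ) : ℤ := ∑ i, v i ^ 2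

theorem nsq_eq (v : Fin 4 → ℤ) : nsq v = v 0 ^ 2 + v 1 ^ 2 + v 2 ^ 2 + v 3 ^ 2 :=
  Fin.sum_univ_four _

theorem sq_le_four_nsq (v : Fin 4 → ℤ) : (∑ i, v i) ^ 2 ≤ 4 * nsq v := by
  rw [Fin.sum_univ_four, nsq_eq]
  nlinarith [sq_nonneg (v 0 - v 1), sq_nonneg (v 0 - v 2), sq_nonneg (v 0 - v 3),
    sq_nonneg (v 1 - v 2), sq_nonneg (v 1 - v 3), sq_nonneg (v 2 - v 3)]

theorem sum_le_nsq (v : Fin 4 → ℤ) : ∑ i, v i ≤ nsq v :=
  Finset.sum_le_sum fun i _ => by nlinarith [sq_nonneg (v i - 1), sq_nonneg (v i)]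

theorem nsq_mod_two (v : Fin 4 → ℤ) : nsq v % 2 = (∑ i, v i) % 2 := by
  have h : ∀ a : ℤ, a ^ 2 % 2 = a % 2 := fun a => by
    rw [sq, Int.mul_emod]
    rcases Int.emod_two_eq a with h | h <;> rw [h] <;> norm_num
  rw [Fin.sum_univ_four, nsq_eq]
  have := h (v 0); have := h (v 1); have := h (v 2); have := h (v 3)
  omega

/-- The possible shapes of a row. -/
theorem shape (x : ι) :
    (D.w x = 1 ∧ nsq (D.s x) = 1 ∧ nsq (D.t x) = 1) ∨
    (D.w x = 1 ∧ nsq (D.s x) = 3 ∧ nsq (D.t x) = 1) ∨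
    (D.w x = 1 ∧ nsq (D.s x) = 1 ∧ nsq (D.t x) = 3) ∨
    (D.w x = 2 ∧ nsq (D.s x) = 2 ∧ nsq (D.t x) = 2) ∨
    (D.w x = 3 ∧ nsq (D.s x) = 3 ∧ nsq (D.t x) = 3) := by
  have h1 := sq_le_four_nsq (D.s x)
  have h2 := sq_le_four_nsq (D.t x)
  have h3 := sum_le_nsq (D.s x)
  have h4 := sum_le_nsq (D.t x)
  have h5 := nsq_mod_two (D.s x)
  have h6 := nsq_mod_two (D.t x)
  have h7 := D.bound x
  have h8 := D.w_pos x
  rw [D.sum_s] at h1 h3 h5
  rw [D.sum_t] at h2 h4 h6
  simp only [nsq] at h1 h2 h3 h4 h5 h6 ⊢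
  set w := D.w x
  have hw : w ≤ 3 := by nlinarith
  interval_cases w <;> omega

theorem sum_nsq_s : ∑ x, nsq (D.s x) = 16 := by
  simp only [nsq]
  rw [Finset.sum_comm, Finset.sum_congr rfl (g := fun _ => (4 : ℤ)) fun i _ => ?_]
  · simp
  · simpa [sq] using D.gram_s i i

theorem sum_nsq_t : ∑ x, nsq (D.t x) = 16 := by
  simp only [nsq]
  rw [Finset.sum_comm, Finset.sum_congr rfl (g := fun _ => (4 : ℤ)) fun i _ => ?_]
  · simp
  · simpa [sq] using D.gram_t i i

theorem sum_w_sq : ∑ x, D.w x ^ 2 = 16 := by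
  have h : ∀ x, D.w x ^ 2 = ∑ i, ∑ j, D.s x i * D.t x j := fun x => by
    rw [← Finset.sum_mul_sum, D.sum_s, D.sum_t, sq]
  simp only [h]
  rw [Finset.sum_comm]
  simp only [Finset.sum_comm (s := (Finset.univ : Finset ι)), D.cross]
  simp

/-- An encoded sign vector with two equal nonzero entries. -/
def edge (k : Fin 6) : Fin 4 → ℤ :=
  ![![1, 1, 0, 0], ![1, 0, 1, 0], ![1, 0, 0, 1], ![0, 1, 1, 0], ![0, 1, 0, 1], ![0, 0, 1, 1]] k

/-- An encoded sign vector with entries `1, 1, -1, 0`. -/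
def tri (k : Fin 12) : Fin 4 → ℤ :=
  ![![0, 1, 1, -1], ![0, 1, -1, 1], ![0, -1, 1, 1], ![1, 0, 1, -1], ![1, 0, -1, 1], ![-1, 0, 1, 1],
    ![1, 1, 0, -1], ![1, -1, 0, 1], ![-1, 1, 0, 1], ![1, 1, -1, 0], ![1, -1, 1, 0], ![-1, 1, 1, 0]] k

set_option maxRecDepth 100000 in
set_option maxHeartbeats 4000000 in
theorem two_edges (E E' : Fin 6) (U V : Fin 12)
    (h : ∀ i j : Fin 4, i < j →
      edge E i * edge E j + edge E' i * edge E' j + tri U i * tri U j + tri V i * tri V j = 0) :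
    E = E' ∧ ∃ p, edge E p = 1 ∧ tri U p ≠ 0 ∧ tri V p ≠ 0 := by
  revert U V
  fin_cases E <;> fin_cases E' <;> decide

theorem sq_le_nsq (v : Fin 4 → ℤ) (i : Fin 4) : v i ^ 2 ≤ nsq v :=
  Finset.single_le_sum (f := fun i => v i ^ 2) (fun j _ => sq_nonneg _) (Finset.mem_univ i)

theorem exists_edge {v : Fin 4 → ℤ} (h1 : ∑ i, v i = 2) (h2 : nsq v = 2) :
    ∃ k, v = edge k := by
  have hb : ∀ i, -1 ≤ v i ∧ v i ≤ 1 := fun i => by
    have := sq_le_nsq v i
    rw [h2] at this
    constructor <;> nlinarith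
  rw [Fin.sum_univ_four] at h1
  rw [nsq_eq] at h2
  obtain ⟨a0, b0⟩ := hb 0; obtain ⟨a1, b1⟩ := hb 1
  obtain ⟨a2, b2⟩ := hb 2; obtain ⟨a3, b3⟩ := hb 3
  have hv : v = ![v 0, v 1, v 2, v 3] := by
    funext i; fin_cases i <;> rfl
  rw [hv]
  interval_cases hx : v 0 <;> interval_cases hy : v 1 <;> interval_cases hz : v 2 <;>
    interval_cases hu : v 3 <;> first | (exfalso; omega) | decide

theorem exists_tri {v : Fin 4 → ℤ} (h1 : ∑ i, v i = 1) (h2 : nsq v = 3) :
    ∃ k, v = tri k := by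
  have hb : ∀ i, -1 ≤ v i ∧ v i ≤ 1 := fun i => by
    have := sq_le_nsq v i
    rw [h2] at this
    constructor <;> nlinarith
  rw [Fin.sum_univ_four] at h1
  rw [nsq_eq] at h2
  obtain ⟨a0, b0⟩ := hb 0; obtain ⟨a1, b1⟩ := hb 1
  obtain ⟨a2, b2⟩ := hb 2; obtain ⟨a3, b3⟩ := hb 3
  have hv : v = ![v 0, v 1, v 2, v 3] := by
    funext i; fin_cases i <;> rfl
  rw [hv]
  interval_cases hx : v 0 <;> interval_cases hy : v 1 <;> interval_cases hz : v 2 <;>
    interval_cases hu : v 3 <;> first | (exfalso; omega) | decide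

theorem mul_eq_zero_of_nsq_one {v : Fin 4 → ℤ} (h : nsq v = 1) {i j : Fin 4} (hij : i ≠ j) :
    v i * v j = 0 := by
  by_contra hne
  have h1 : 1 ≤ v i ^ 2 := by
    exact sq_pos_of_ne_zero (a := v i) fun e => hne (by rw [e, zero_mul])
  have h2 : 1 ≤ v j ^ 2 := by
    exact sq_pos_of_ne_zero (a := v j) fun e => hne (by rw [e, mul_zero])
  have h3 : v i ^ 2 + v j ^ 2 ≤ nsq v := by
    rw [← Finset.sum_pair (f := fun k => v k ^ 2) hij]
    exact Finset.sum_le_sum_of_subset_of_nonneg (Finset.subset_univ _) fun k _ _ => sq_nonneg _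
  omega

theorem nsq_edge : ∀ E, nsq (edge E) = 2 := by decide

theorem no_edge_tri : ∀ (E : Fin 6) (U : Fin 12),
    ∃ i j : Fin 4, i < j ∧ edge E i * edge E j + tri U i * tri U j ≠ 0 := by decide

include D in
/-- There are sixteen or eight rows. -/
theorem card_eq [DecidableEq ι] : Fintype.card ι = 16 ∨ Fintype.card ι = 8 := by
  set n11 := univ.filter fun x => D.w x = 1 ∧ nsq (D.s x) = 1 ∧ nsq (D.t x) = 1 with hn11
  set n31 := univ.filter fun x => D.w x = 1 ∧ nsq (D.s x) = 3 ∧ nsq (D.t x) = 1 with hn31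
  set n13 := univ.filter fun x => D.w x = 1 ∧ nsq (D.s x) = 1 ∧ nsq (D.t x) = 3 with hn13
  set n22 := univ.filter fun x => D.w x = 2 ∧ nsq (D.s x) = 2 ∧ nsq (D.t x) = 2 with hn22
  set n33 := univ.filter fun x => D.w x = 3 ∧ nsq (D.s x) = 3 ∧ nsq (D.t x) = 3 with hn33
  have hind : ∀ f : ι → ℤ, ∀ c11 c31 c13 c22 c33 : ℤ, (∀ x ∈ n11, f x = c11) →
      (∀ x ∈ n31, f x = c31) → (∀ x ∈ n13, f x = c13) → (∀ x ∈ n22, f x = c22) →
      (∀ x ∈ n33, f x = c33) →
      ∑ x, f x = c11 * n11.card + c31 * n31.card + c13 * n13.card + c22 * n22.card +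
        c33 * n33.card := by
    intro f c11 c31 c13 c22 c33 a b c d e
    have : ∀ x, f x = (if x ∈ n11 then c11 else 0) + (if x ∈ n31 then c31 else 0) +
        (if x ∈ n13 then c13 else 0) + (if x ∈ n22 then c22 else 0) +
        (if x ∈ n33 then c33 else 0) := by
      intro x
      rcases shape D x with h | h | h | h | h
      · rw [a x (by simp [n11, h])]; simp [n11, n31, n13, n22, n33, h]
      · rw [b x (by simp [n31, h])]; simp [n11, n31, n13, n22, n33, h]
      · rw [c x (by simp [n13, h])]; simp [n11, n31, n13, n22, n33, h]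
      · rw [d x (by simp [n22, h])]; simp [n11, n31, n13, n22, n33, h]
      · rw [e x (by simp [n33, h])]; simp [n11, n31, n13, n22, n33, h]
    rw [Finset.sum_congr rfl fun x _ => this x]
    simp only [Finset.sum_add_distrib, Finset.sum_ite_mem, Finset.univ_inter, Finset.sum_const,
      nsmul_eq_mul]
    ring
  have e1 := hind (fun x => nsq (D.s x)) 1 3 1 2 3
    (fun x hx => (Finset.mem_filter.1 hx).2.2.1) (fun x hx => (Finset.mem_filter.1 hx).2.2.1)
    (fun x hx => (Finset.mem_filter.1 hx).2.2.1) (fun x hx => (Finset.mem_filter.1 hx).2.2.1)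
    (fun x hx => (Finset.mem_filter.1 hx).2.2.1)
  have e2 := hind (fun x => nsq (D.t x)) 1 1 3 2 3
    (fun x hx => (Finset.mem_filter.1 hx).2.2.2) (fun x hx => (Finset.mem_filter.1 hx).2.2.2)
    (fun x hx => (Finset.mem_filter.1 hx).2.2.2) (fun x hx => (Finset.mem_filter.1 hx).2.2.2)
    (fun x hx => (Finset.mem_filter.1 hx).2.2.2)
  have e3 := hind (fun x => D.w x ^ 2) 1 1 1 4 9
    (fun x hx => by simp [(Finset.mem_filter.1 hx).2.1])
    (fun x hx => by simp [(Finset.mem_filter.1 hx).2.1])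
    (fun x hx => by simp [(Finset.mem_filter.1 hx).2.1])
    (fun x hx => by simp [(Finset.mem_filter.1 hx).2.1])
    (fun x hx => by simp [(Finset.mem_filter.1 hx).2.1])
  have e4 := hind (fun _ => 1) 1 1 1 1 1 (by simp) (by simp) (by simp) (by simp) (by simp)
  rw [sum_nsq_s] at e1
  rw [sum_nsq_t] at e2
  rw [sum_w_sq] at e3
  simp only [Finset.sum_const, Finset.card_univ, nsmul_eq_mul, mul_one] at e4
  by_contra hcon
  have hE : n22.card ≠ 0 ∧ n33.card = 0 ∧ n31.card = n22.card ∧ n13.card = n22.card ∧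
      n22.card ≤ 2 := by omega
  -- the rows with one nonzero entry do not contribute off the diagonal
  have h33 : n33 = ∅ := Finset.card_eq_zero.1 hE.2.1
  have hoff : ∀ i j : Fin 4, i ≠ j →
      ∑ x ∈ n22, D.s x i * D.s x j + ∑ x ∈ n31, D.s x i * D.s x j = 0 := by
    intro i j hij
    have hd : Disjoint n22 n31 := Finset.disjoint_left.2 fun x hx hx' => by
      simp only [n22, n31, Finset.mem_filter] at hx hx'
      omega
    rw [← Finset.sum_union hd]
    refine Eq.trans (Finset.sum_subset (Finset.subset_univ _) fun x _ hx => ?_)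
      (by rw [D.gram_s, if_neg hij])
    refine mul_eq_zero_of_nsq_one ?_ hij
    simp only [Finset.mem_union, not_or] at hx
    rcases shape D x with h | h | h | h | h
    · exact h.2.1
    · exact absurd (by simp [n31, h]) hx.2
    · exact h.2.1
    · exact absurd (by simp [n22, h]) hx.1
    · exact absurd (show x ∈ n33 by simp [n33, h]) (by rw [h33]; simp)
  have hofft : ∀ i j : Fin 4, i ≠ j →
      ∑ x ∈ n22, D.t x i * D.t x j + ∑ x ∈ n13, D.t x i * D.t x j = 0 := by
    intro i j hij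
    have hd : Disjoint n22 n13 := Finset.disjoint_left.2 fun x hx hx' => by
      simp only [n22, n13, Finset.mem_filter] at hx hx'
      omega
    rw [← Finset.sum_union hd]
    refine Eq.trans (Finset.sum_subset (Finset.subset_univ _) fun x _ hx => ?_)
      (by rw [D.gram_t, if_neg hij])
    refine mul_eq_zero_of_nsq_one ?_ hij
    simp only [Finset.mem_union, not_or] at hx
    rcases shape D x with h | h | h | h | h
    · exact h.2.2
    · exact h.2.2
    · exact absurd (by simp [n13, h]) hx.2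
    · exact absurd (by simp [n22, h]) hx.1
    · exact absurd (show x ∈ n33 by simp [n33, h]) (by rw [h33]; simp)
  have edgeS : ∀ x ∈ n22, ∃ k, D.s x = edge k := fun x hx =>
    exists_edge (by rw [D.sum_s]; exact (Finset.mem_filter.1 hx).2.1)
      (Finset.mem_filter.1 hx).2.2.1
  have edgeT : ∀ x ∈ n22, ∃ k, D.t x = edge k := fun x hx =>
    exists_edge (by rw [D.sum_t]; exact (Finset.mem_filter.1 hx).2.1)
      (Finset.mem_filter.1 hx).2.2.2
  have triS : ∀ x ∈ n31, ∃ k, D.s x = tri k := fun x hx =>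
    exists_tri (by rw [D.sum_s]; exact (Finset.mem_filter.1 hx).2.1)
      (Finset.mem_filter.1 hx).2.2.1
  have triT : ∀ x ∈ n13, ∃ k, D.t x = tri k := fun x hx =>
    exists_tri (by rw [D.sum_t]; exact (Finset.mem_filter.1 hx).2.1)
      (Finset.mem_filter.1 hx).2.2.2
  rcases (show n22.card = 1 ∨ n22.card = 2 by omega) with h1 | h2
  · obtain ⟨e, he⟩ := Finset.card_eq_one.1 h1
    obtain ⟨u, hu⟩ := Finset.card_eq_one.1 (hE.2.2.1.trans h1)
    obtain ⟨E, hEs⟩ := edgeS e (by simp [he])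
    obtain ⟨U, hUs⟩ := triS u (by simp [hu])
    obtain ⟨i, j, hij, hne⟩ := no_edge_tri E U
    refine hne ?_
    have h := hoff i j hij.ne
    rwa [he, hu, Finset.sum_singleton, Finset.sum_singleton, hEs, hUs] at h
  · obtain ⟨e, e', hee, he⟩ := Finset.card_eq_two.1 h2
    obtain ⟨u, v, huv, hu⟩ := Finset.card_eq_two.1 (hE.2.2.1.trans h2)
    obtain ⟨u', v', huv', hu'⟩ := Finset.card_eq_two.1 (hE.2.2.2.1.trans h2)
    obtain ⟨E, hEs⟩ := edgeS e (by simp [he])
    obtain ⟨E', hEs'⟩ := edgeS e' (by simp [he])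
    obtain ⟨U, hUs⟩ := triS u (by simp [hu])
    obtain ⟨V, hVs⟩ := triS v (by simp [hu])
    obtain ⟨F, hFt⟩ := edgeT e (by simp [he])
    obtain ⟨F', hFt'⟩ := edgeT e' (by simp [he])
    obtain ⟨U', hUt⟩ := triT u' (by simp [hu'])
    obtain ⟨V', hVt⟩ := triT v' (by simp [hu'])
    obtain ⟨hEE, p, hp, hpU, hpV⟩ := two_edges E E' U V fun i j hij => by
      have h := hoff i j hij.ne
      rw [he, hu, Finset.sum_pair hee, Finset.sum_pair huv, hEs, hEs', hUs, hVs] at h
      linarith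
    obtain ⟨hFF, -⟩ := two_edges F F' U' V' fun i j hij => by
      have h := hofft i j hij.ne
      rw [he, hu', Finset.sum_pair hee, Finset.sum_pair huv', hFt, hFt', hUt, hVt] at h
      linarith
    -- the column `p` is supported on the four exceptional rows
    have hd : Disjoint n22 n31 := Finset.disjoint_left.2 fun x hx hx' => by
      simp only [n22, n31, Finset.mem_filter] at hx hx'
      omega
    have hfour : ∑ x ∈ n22 ∪ n31, D.s x p ^ 2 = 4 := by
      have hsqU : 1 ≤ tri U p ^ 2 := sq_pos_of_ne_zero hpU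
      have hsqV : 1 ≤ tri V p ^ 2 := sq_pos_of_ne_zero hpV
      have hle : ∑ x ∈ n22 ∪ n31, D.s x p ^ 2 ≤ 4 := by
        refine (Finset.sum_le_sum_of_subset_of_nonneg (Finset.subset_univ _)
          fun x _ _ => sq_nonneg _).trans (le_of_eq ?_)
        simpa [sq] using D.gram_s p p
      refine le_antisymm hle ?_
      rw [Finset.sum_union hd, he, hu, Finset.sum_pair hee, Finset.sum_pair huv, hEs, hEs', hUs,
        hVs, ← hEE, hp]
      linarith
    have hout : ∀ x, x ∉ n22 ∪ n31 → D.s x p = 0 := by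
      intro x hx
      have h := Finset.sum_add_sum_compl (n22 ∪ n31) (fun x => D.s x p ^ 2)
      rw [hfour, show ∑ x, D.s x p ^ 2 = 4 by simpa [sq] using D.gram_s p p] at h
      have h0 := (Finset.sum_eq_zero_iff_of_nonneg (fun x _ => sq_nonneg _)).1
        (show ∑ x ∈ (n22 ∪ n31)ᶜ, D.s x p ^ 2 = 0 by linarith) x (Finset.mem_compl.2 hx)
      exact pow_eq_zero_iff two_ne_zero |>.1 h0
    have hj : ∀ j, 2 * edge F j + (tri U p * D.t u j + tri V p * D.t v j) = 1 := by
      intro j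
      have h := D.cross p j
      rw [← Finset.sum_subset (Finset.subset_univ (n22 ∪ n31))
          (fun x _ hx => by rw [hout x hx, zero_mul]), Finset.sum_union hd, he, hu,
        Finset.sum_pair hee, Finset.sum_pair huv, hEs, hEs', hUs, hVs, ← hEE, hp, hFt, hFt',
        ← hFF] at h
      linarith
    have htu : nsq (D.t u) = 1 := (Finset.mem_filter.1 (show u ∈ n31 by simp [hu])).2.2.2
    have htv : nsq (D.t v) = 1 := (Finset.mem_filter.1 (show v ∈ n31 by simp [hu])).2.2.2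
    have hb : ∀ j, (1 : ℤ) ≤ D.t u j ^ 2 + D.t v j ^ 2 := by
      intro j
      rcases eq_or_ne (D.t u j) 0 with e1 | e1
      · rcases eq_or_ne (D.t v j) 0 with e2 | e2
        · have := hj j
          rw [e1, e2, mul_zero, mul_zero, add_zero] at this
          omega
        · exact le_add_of_nonneg_of_le (sq_nonneg _) (sq_pos_of_ne_zero e2)
      · exact le_add_of_le_of_nonneg (sq_pos_of_ne_zero e1) (sq_nonneg _)
    have h := Finset.sum_le_sum (s := (Finset.univ : Finset (Fin 4))) fun j _ => hb j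
    rw [Finset.sum_add_distrib] at h
    simp only [nsq] at htu htv
    rw [htu, htv] at h
    simp at h

end CfsgLib.SixteenNine
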