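import Cfsg.Agent.Lib.Blocks.SixteenNine.Side
import Cfsg.Agent.Lib.Blocks.SixteenNine.Combinatorics
import Cfsg.Agent.Lib.Blocks.SubsectionHeight
import Cfsg.Agent.Lib.CharAction.Rank
import Cfsg.Agent.Lib.Transfer.PResidual

/-!
# Elementary abelian Sylow 2-subgroups of order sixteen with automizer of order nine

The principal block has sixteen characters and regular rank nine.
-/

set_option autoImplicit false

namespace CfsgLib.SixteenNine

open Cfsg CfsgLib.Blocks CfsgLib.CharAction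
open scoped ComplexConjugate Classical

variable {G : Type*} [Group G] [Fintype G] {P : Sylow 2 G} {V W : Subgroup G}

/-- An element of the first factor is conjugate to no element outside it. -/
theorem not_isConj_left (F : Factors P V W) {a x : G} (ha : a ∈ V) (hx : x ∈ (P : Subgroup G))
    (hxV : x ∉ V) : ¬ IsConj a x := by
  have : Fact (Nat.Prime 2) := ⟨Nat.prime_two⟩
  intro h
  obtain ⟨g, hg⟩ := isConj_iff.1 h
  obtain ⟨n, hn, hne⟩ := Transfer.exists_normalizer_conj_of_isMulCommutative P F.comm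
    (X := {a}) (Set.singleton_subset_iff.2 (F.left_le ha)) (g := g⁻¹)
    (by rw [Set.image_singleton, Set.singleton_subset_iff, inv_inv, hg]; exact hx)
  have h1 := hne a rfl
  rw [inv_inv, hg] at h1
  refine hxV ?_
  rw [← h1]
  have h2 := (F.stable n⁻¹ (inv_mem hn)).1 a ha
  rwa [inv_inv] at h2

omit [Fintype G] in
theorem mul_notMem_left (F : Factors P V W) {a z : G} (ha : a ∈ V) (hz : z ∈ W) (hz1 : z ≠ 1) :
    a * z ∉ V := fun h =>
  hz1 (eq_one_of_left_right F (by have := mul_mem (inv_mem ha) h; rwa [inv_mul_cancel_left] at this) hz)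

/-- The conclusion. -/
theorem card_and_rank {M : Ideal AlgInt} [M.IsPrime] (hM : IsPModular 2 M) (F : Factors P V W) :
    Nat.card (principalBlock M G) = 16 ∧ blockRank 2 (principalBlock M G) = 9 := by
  have : Fact (Nat.Prime 2) := ⟨Nat.prime_two⟩
  obtain ⟨⟨a, ha⟩, ha'⟩ := Subgroup.ne_bot_iff_exists_ne_one.1 (show V ≠ ⊥ from fun e => by
    have := F.card_left; rw [e, Subgroup.card_bot] at this; omega)
  obtain ⟨⟨z, hz⟩, hz'⟩ := Subgroup.ne_bot_iff_exists_ne_one.1 (show W ≠ ⊥ from fun e => by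
    have := F.card_right; rw [e, Subgroup.card_bot] at this; omega)
  have ha1 : a ≠ 1 := fun e => ha' (Subtype.ext e)
  have hz1 : z ≠ 1 := fun e => hz' (Subtype.ext e)
  have hcP : a * z ∈ (P : Subgroup G) := mul_mem (F.left_le ha) (F.right_le hz)
  have hc1 : a * z ≠ 1 := fun e => ha1 ((unique_split F ha (one_mem V) hz (one_mem W)
    (by rw [e, one_mul])).1)
  have hc2 : orderOf (a * z) = 2 := orderOf_eq_two F hcP hc1
  have hza : z * a = a * z := (commute_of_mem F (F.right_le hz) (F.left_le ha)).eq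
  have hxa := exists_orderOf F (F.left_le ha)
  have hxz := exists_orderOf F (F.right_le hz)
  have hxc := exists_orderOf F hcP
  have hnaz : ¬ IsConj a z := not_isConj_left F ha (F.right_le hz)
    fun h => hz1 (eq_one_of_left_right F h hz)
  have hnac : ¬ IsConj a (a * z) := not_isConj_left F ha hcP (mul_notMem_left F ha hz hz1)
  have hnzc : ¬ IsConj z (a * z) := not_isConj_left F.symm hz hcP (by
    rw [← hza]; exact mul_notMem_left F.symm hz ha ha1)
  obtain ⟨h, hh, hh0, hhint, hhsum, hhgram, hhnorm⟩ := exists_side F hM ha ha1 hz hz1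
  obtain ⟨h', hh', hh0', hhint', hhsum', hhgram', hhnorm'⟩ := exists_side F.symm hM hz hz1 ha ha1
  rw [hza] at hhint'
  have := Fintype.ofFinite (IrrCharacter G)
  set B := principalBlock M G with hBdef
  have hB : IsPBlock M B := isPBlock_principalBlock
  have instB : Fintype B := Fintype.ofFinite B
  have hB0 : ∀ f : IrrCharacter G → ℂ, (∀ χ, χ ∉ B → f χ = 0) →
      ∑ χ : IrrCharacter G, f χ = ∑ χ : B, f χ.1 := by
    intro f hf
    rw [← Finset.sum_subset (Finset.subset_univ (Finset.univ.filter (· ∈ B)))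
      fun χ _ hχ => hf χ (by simpa using hχ)]
    exact Finset.sum_subtype (p := (· ∈ B)) _ (fun χ => by simp) f
  -- integer columns
  have hw : ∀ χ : B, ∃ w : ℤ, (χ.1 : G → ℂ) (a * z) = w := fun χ =>
    exists_int_apply_of_orderOf_two χ.1 hc2
  choose w hw using hw
  choose s hs using fun χ : B => hhint χ.1 χ.2
  choose t ht using fun χ : B => hhint' χ.1 χ.2
  simp only [hw] at hs ht
  have hconj : ∀ (n m : ℤ), conj ((n : ℂ) - (m : ℂ) / 4) = (n : ℂ) - (m : ℂ) / 4 := fun n m => by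
    rw [map_sub, map_div₀, map_intCast, map_intCast, map_ofNat]
  set R : ℂ := ((Finset.univ.filter fun y : Subgroup.centralizer ({a * z} : Set G) =>
    ¬ 2 ∣ orderOf y).card : ℂ) with hRdef
  have hR16 : 16 * R = (Nat.card (Subgroup.centralizer ({a * z} : Set G)) : ℂ) :=
    card_regular_mixed F ha ha1 hz hz1
  have hR0 : R ≠ 0 := fun e => by
    rw [e, mul_zero] at hR16
    exact Nat.cast_ne_zero.2 Nat.card_pos.ne' hR16.symm
  have hu : ∀ χ : B, pairing 2 (a * z) (fun _ => conj (1 : ℂ)) (χ.1 : G → ℂ) = R * (w χ : ℂ) :=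
    fun χ => by rw [pairing_mixed F hM ha ha1 hz hz1, if_pos χ.2, hw]
  have hu0 : ∀ χ : IrrCharacter G, χ ∉ B →
      pairing 2 (a * z) (fun _ => conj (1 : ℂ)) (χ : G → ℂ) = 0 :=
    fun χ hχ => by rw [pairing_mixed F hM ha ha1 hz hz1, if_neg hχ]
  have eww : ∑ χ : B, (w χ : ℂ) * (w χ : ℂ) = 16 := by
    have e := sum_pairing_mul (p := 2) hxc (h := fun _ => conj (1 : ℂ))
      (h' := fun _ : Subgroup.centralizer ({a * z} : Set G) => conj (1 : ℂ)) (fun _ _ => rfl)
    rw [hB0 _ fun χ hχ => by rw [hu0 χ hχ, zero_mul]] at e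
    simp only [hu] at e
    simp only [map_mul, map_intCast, map_one, mul_one, Finset.sum_const, nsmul_eq_mul] at e
    rw [← hRdef, ← hR16, hRdef, map_natCast, ← hRdef] at e
    rw [Finset.sum_congr rfl (g := fun χ : B => R ^ 2 * ((w χ : ℂ) * (w χ : ℂ))) fun χ _ => by ring,
      ← Finset.mul_sum] at e
    refine mul_left_cancel₀ (pow_ne_zero 2 hR0) (e.trans (by ring))
  have ess : ∀ i j, ∑ χ : B, ((s χ i : ℂ) - (w χ : ℂ) / 4) * ((s χ j : ℂ) - (w χ : ℂ) / 4) =
      (if i = j then 4 else 0) - 1 := by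
    intro i j
    have e := sum_pairing_mul (p := 2) hxa (h := fun y => conj (h i y))
      (h' := fun y => conj (h j y)) fun y d => congrArg conj (hh j y d)
    rw [hB0 _ fun χ hχ => by rw [hh0 χ hχ i, zero_mul]] at e
    simp only [hs, hconj, Complex.conj_conj, hhgram] at e
    exact e
  have ett : ∀ i j, ∑ χ : B, ((t χ i : ℂ) - (w χ : ℂ) / 4) * ((t χ j : ℂ) - (w χ : ℂ) / 4) =
      (if i = j then 4 else 0) - 1 := by
    intro i j
    have e := sum_pairing_mul (p := 2) hxz (h := fun y => conj (h' i y))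
      (h' := fun y => conj (h' j y)) fun y d => congrArg conj (hh' j y d)
    rw [hB0 _ fun χ hχ => by rw [hh0' χ hχ i, zero_mul]] at e
    simp only [ht, hconj, Complex.conj_conj, hhgram'] at e
    exact e
  have est : ∀ i j, ∑ χ : B, ((s χ i : ℂ) - (w χ : ℂ) / 4) * ((t χ j : ℂ) - (w χ : ℂ) / 4) = 0 := by
    intro i j
    have e := sum_pairing_mul_eq_zero (p := 2) hxa hxz hnaz (fun y => conj (h i y))
      (fun y => conj (h' j y))
    rw [hB0 _ fun χ hχ => by rw [hh0 χ hχ i, zero_mul]] at e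
    simp only [hs, ht, hconj] at e
    exact e
  have esw : ∀ i, ∑ χ : B, ((s χ i : ℂ) - (w χ : ℂ) / 4) * (w χ : ℂ) = 0 := by
    intro i
    have e := sum_pairing_mul_eq_zero (p := 2) hxa hxc hnac (fun y => conj (h i y))
      (fun _ => conj (1 : ℂ))
    rw [hB0 _ fun χ hχ => by rw [hh0 χ hχ i, zero_mul]] at e
    simp only [hs, hu, map_mul, map_intCast] at e
    rw [hRdef, map_natCast, ← hRdef, Finset.sum_congr rfl
      (g := fun χ : B => R * (((s χ i : ℂ) - (w χ : ℂ) / 4) * (w χ : ℂ))) fun χ _ => by ring,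
      ← Finset.mul_sum] at e
    exact (mul_eq_zero.1 e).resolve_left hR0
  have etw : ∀ i, ∑ χ : B, ((t χ i : ℂ) - (w χ : ℂ) / 4) * (w χ : ℂ) = 0 := by
    intro i
    have e := sum_pairing_mul_eq_zero (p := 2) hxz hxc hnzc (fun y => conj (h' i y))
      (fun _ => conj (1 : ℂ))
    rw [hB0 _ fun χ hχ => by rw [hh0' χ hχ i, zero_mul]] at e
    simp only [ht, hu, map_mul, map_intCast] at e
    rw [hRdef, map_natCast, ← hRdef, Finset.sum_congr rfl
      (g := fun χ : B => R * (((t χ i : ℂ) - (w χ : ℂ) / 4) * (w χ : ℂ))) fun χ _ => by ring,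
      ← Finset.mul_sum] at e
    exact (mul_eq_zero.1 e).resolve_left hR0
  have hexp : ∀ u v : B → ℤ, ∑ χ : B, (u χ : ℂ) * (v χ : ℂ) =
      ∑ χ : B, ((u χ : ℂ) - (w χ : ℂ) / 4) * ((v χ : ℂ) - (w χ : ℂ) / 4) +
        ∑ χ : B, ((u χ : ℂ) - (w χ : ℂ) / 4) * (w χ : ℂ) / 4 +
        ∑ χ : B, ((v χ : ℂ) - (w χ : ℂ) / 4) * (w χ : ℂ) / 4 +
        ∑ χ : B, (w χ : ℂ) * (w χ : ℂ) / 16 := by
    intro u v
    simp only [← Finset.sum_add_distrib]
    exact Finset.sum_congr rfl fun χ _ => by ring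
  have gss : ∀ i j, ∑ χ : B, s χ i * s χ j = if i = j then 4 else 0 := fun i j => by
    have e := hexp (fun χ => s χ i) (fun χ => s χ j)
    simp only [ess, esw, eww, ← Finset.sum_div, zero_div, add_zero] at e
    apply (Int.cast_injective (α := ℂ))
    push_cast
    rw [e]
    split_ifs <;> norm_num
  have gtt : ∀ i j, ∑ χ : B, t χ i * t χ j = if i = j then 4 else 0 := fun i j => by
    have e := hexp (fun χ => t χ i) (fun χ => t χ j)
    simp only [ett, etw, eww, ← Finset.sum_div, zero_div, add_zero] at e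
    apply (Int.cast_injective (α := ℂ))
    push_cast
    rw [e]
    split_ifs <;> norm_num
  have gst : ∀ i j, ∑ χ : B, s χ i * t χ j = 1 := fun i j => by
    have e := hexp (fun χ => s χ i) (fun χ => t χ j)
    simp only [est, esw, etw, eww, ← Finset.sum_div, zero_div, add_zero, zero_add] at e
    apply (Int.cast_injective (α := ℂ))
    push_cast
    rw [e]
    norm_num
  have hsum : ∀ χ : B, ∑ i, s χ i = w χ ∧ ∑ i, t χ i = w χ := fun χ => by
    have e1 := hhsum χ.1
    have e2 := hhsum' χ.1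
    simp only [hs] at e1
    simp only [ht] at e2
    rw [Fin.sum_univ_four] at e1 e2 ⊢
    rw [Fin.sum_univ_four]
    constructor <;> apply (Int.cast_injective (α := ℂ)) <;> push_cast
    · linear_combination e1
    · linear_combination e2
  have hw0 : ∀ χ : B, w χ ≠ 0 := by
    intro χ e0
    have hle : (P : Subgroup G) ≤ Subgroup.centralizer ({a * z} : Set G) := le_centralizer F hcP
    have := Fintype.ofFinite (IrrCharacter (Subgroup.centralizer ({a * z} : Set G)))
    have hdef : ∀ (H : Type _) [Group H] [Fintype H],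
        blockDefect 2 (principalBlock M H) = (Nat.card H).factorization 2 := by
      intro H _ _
      have h0 : (0 : ℕ) ∈ ((fun ψ : IrrCharacter H =>
          (charDegree (ψ : H → ℂ)).factorization 2) '' principalBlock M H) :=
        ⟨Char.trivChar H, trivChar_mem_principalBlock, by simp [charDegree, Char.trivChar_apply]⟩
      rw [blockDefect, Nat.sInf_eq_zero.mpr (Or.inl h0), Nat.sub_zero]
    refine contribution_self_ne_zero hM hxc
      ((isInducedBlock_principal_iff hM hxc isPBlock_principalBlock).2 rfl) χ.2 ?_ ?_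
    · rw [hdef, hdef]
      refine Nat.pow_right_injective le_rfl ?_
      show 2 ^ _ = 2 ^ _
      rw [← (P.subtype hle).card_eq_multiplicity, ← P.card_eq_multiplicity]
      exact Nat.card_congr (Subgroup.subgroupOfEquivOfLe hle).toEquiv
    · rw [contribution, Finset.sum_eq_zero, mul_zero]
      intro y hy
      rw [blockPart_principal_translate hM hxc χ.1 (Finset.mem_filter.1 hy).2, if_pos χ.2,
        apply_mul_mixed F hM ha ha1 hz hz1 χ.2 (Finset.mem_filter.1 hy).2, hw, e0, Int.cast_zero,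
        zero_mul]
  -- the section sums
  set S : G → IrrCharacter G → ℂ := fun x χ => ∑ g ∈ Finset.univ.filter
    (fun g : G => ∃ u, IsPPart 2 g u ∧ IsConj u x), (χ : G → ℂ) g * conj ((χ : G → ℂ) g) with hS
  have hsec : ∀ x : G, (∃ k : ℕ, orderOf x = 2 ^ k) → ∀ χ : IrrCharacter G,
      (Nat.card (Subgroup.centralizer ({x} : Set G)) : ℂ) * S x χ =
        (Nat.card G : ℂ) * ∑ y ∈ Finset.univ.filter
          (fun y : Subgroup.centralizer ({x} : Set G) => ¬ 2 ∣ orderOf y),
            (χ : G → ℂ) (x * (y : G)) * conj ((χ : G → ℂ) (x * (y : G))) := fun x hx χ =>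
    sum_section hx fun g d => by
      show (χ : G → ℂ) _ * conj ((χ : G → ℂ) _) = _
      rw [Char.IsIrr.isClassFunction χ.2]
  have hSa : ∀ χ : B, 16 * S a χ.1 =
      (Nat.card G : ℂ) * (4 * ∑ i, (s χ i : ℂ) * (s χ i : ℂ) - (w χ : ℂ) * (w χ : ℂ)) := by
    intro χ
    have e1 := hsec a hxa χ.1
    have e2 := hhnorm χ.1 χ.2
    simp only [hs, hconj] at e2
    have hN : (Nat.card (Subgroup.centralizer ({a} : Set G)) : ℂ) ≠ 0 :=
      Nat.cast_ne_zero.2 Nat.card_pos.ne'
    refine mul_left_cancel₀ hN ?_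
    have e3 := (hsum χ).1
    have e3' : ∑ i, (s χ i : ℂ) = (w χ : ℂ) := by exact_mod_cast congrArg (Int.cast : ℤ → ℂ) e3
    simp only [Fin.sum_univ_four] at e2 e3' ⊢
    linear_combination (norm := ring_nf) 16 * e1 + 4 * (Nat.card G : ℂ) * e2 -
      2 * (Nat.card G : ℂ) * (Nat.card (Subgroup.centralizer ({a} : Set G)) : ℂ) * (w χ : ℂ) * e3'
  have hSz : ∀ χ : B, 16 * S z χ.1 =
      (Nat.card G : ℂ) * (4 * ∑ i, (t χ i : ℂ) * (t χ i : ℂ) - (w χ : ℂ) * (w χ : ℂ)) := by
    intro χ
    have e1 := hsec z hxz χ.1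
    have e2 := hhnorm' χ.1 χ.2
    simp only [ht, hconj] at e2
    have hN : (Nat.card (Subgroup.centralizer ({z} : Set G)) : ℂ) ≠ 0 :=
      Nat.cast_ne_zero.2 Nat.card_pos.ne'
    refine mul_left_cancel₀ hN ?_
    have e3' : ∑ i, (t χ i : ℂ) = (w χ : ℂ) := by
      exact_mod_cast congrArg (Int.cast : ℤ → ℂ) (hsum χ).2
    simp only [Fin.sum_univ_four] at e2 e3' ⊢
    linear_combination (norm := ring_nf) 16 * e1 + 4 * (Nat.card G : ℂ) * e2 -
      2 * (Nat.card G : ℂ) * (Nat.card (Subgroup.centralizer ({z} : Set G)) : ℂ) * (w χ : ℂ) * e3'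
  have hSc : ∀ χ : B, 16 * S (a * z) χ.1 = (Nat.card G : ℂ) * ((w χ : ℂ) * (w χ : ℂ)) := by
    intro χ
    have e1 := hsec (a * z) hxc χ.1
    rw [Finset.sum_congr rfl fun y hy => by
      rw [apply_mul_mixed F hM ha ha1 hz hz1 χ.2 (Finset.mem_filter.1 hy).2, hw, map_intCast],
      Finset.sum_const, nsmul_eq_mul, ← hRdef, ← hR16] at e1
    refine mul_left_cancel₀ hR0 ?_
    linear_combination e1
  have hpart : ∀ χ : IrrCharacter G,
      ∑ g ∈ Finset.univ.filter (fun g : G => ¬ 2 ∣ orderOf g), (χ : G → ℂ) g * conj ((χ : G → ℂ) g) +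
        S a χ + S z χ + S (a * z) χ = (Nat.card G : ℂ) := by
    intro χ
    set sec : G → Finset G := fun x =>
      Finset.univ.filter fun g : G => ∃ u, IsPPart 2 g u ∧ IsConj u x
    have hdisj : ∀ x y : G, ¬ IsConj x y → Disjoint (sec x) (sec y) := by
      intro x y hxy
      refine Finset.disjoint_left.2 fun g hg hg' => ?_
      obtain ⟨u, hu, hux⟩ := (Finset.mem_filter.1 hg).2
      obtain ⟨v, hv, hvy⟩ := (Finset.mem_filter.1 hg').2
      have huv : u = v := by
        have := conj_pPart_eq Nat.prime_two hu hv (x := 1) (j := 1) (by norm_num) (by group)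
        simpa using this
      exact hxy (hux.symm.trans (huv ▸ hvy))
    have hsing : Finset.univ.filter (fun g : G => 2 ∣ orderOf g) = sec a ∪ sec z ∪ sec (a * z) := by
      ext g
      simp only [sec, Finset.mem_union, Finset.mem_filter, Finset.mem_univ, true_and]
      constructor
      · intro hg
        obtain ⟨u, hu⟩ := exists_pPart Nat.prime_two g
        have hu1 : u ≠ 1 := (IsPPart.dvd_orderOf_iff Nat.prime_two hu).1 hg
        obtain ⟨m, -, -, k, hk⟩ := IsPPart.exists_exponent Nat.prime_two hu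
        obtain ⟨Q, hQ⟩ := (IsPGroup.of_card (n := k) (by rw [Nat.card_zpowers, hk]) :
          IsPGroup 2 (Subgroup.zpowers u)).exists_le_sylow
        obtain ⟨c, hc⟩ := MulAction.exists_smul_eq G Q P
        have hmem : c * u * c⁻¹ ∈ (P : Subgroup G) := by
          rw [← hc, Sylow.coe_subgroup_smul]
          exact ⟨u, hQ (Subgroup.mem_zpowers u), by simp⟩
        have hcu : IsConj u (c * u * c⁻¹) := isConj_iff.2 ⟨c, rfl⟩
        obtain ⟨a', ha', z', hz', he⟩ := F.split _ hmem
        rw [he] at hcu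
        by_cases hz1' : z' = 1
        · have ha1' : a' ≠ 1 := fun e => by
            rw [e, hz1', one_mul, isConj_one_left] at hcu; exact hu1 hcu
          obtain ⟨n, -, -, hn⟩ := F.trans_left a' ha' ha1' a ha ha1
          rw [hz1', mul_one] at hcu
          exact Or.inl (Or.inl ⟨u, hu, hcu.trans (isConj_iff.2 ⟨n, hn⟩)⟩)
        by_cases ha1' : a' = 1
        · obtain ⟨n, -, -, hn⟩ := F.trans_right z' hz' hz1' z hz hz1
          rw [ha1', one_mul] at hcu
          exact Or.inl (Or.inr ⟨u, hu, hcu.trans (isConj_iff.2 ⟨n, hn⟩)⟩)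
        exact Or.inr ⟨u, hu, hcu.trans (isConj_mixed F ha' ha1' ha ha1 hz' hz1' hz hz1)⟩
      · rintro ((⟨u, hu, hux⟩ | ⟨u, hu, hux⟩) | ⟨u, hu, hux⟩) <;>
          refine (IsPPart.dvd_orderOf_iff Nat.prime_two hu).2 fun e => ?_ <;>
          rw [e, isConj_one_right] at hux
        exacts [ha1 hux, hz1 hux, hc1 hux]
    have htot := Char.classInner_irr_self χ
    rw [classInner, inv_mul_eq_one₀ (Nat.cast_ne_zero.2 Nat.card_pos.ne')] at htot
    rw [htot, ← Finset.sum_filter_add_sum_filter_not Finset.univ (fun g : G => 2 ∣ orderOf g),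
      hsing, Finset.sum_union (Finset.disjoint_union_left.2 ⟨hdisj a _ hnac, hdisj z _ hnzc⟩),
      Finset.sum_union (hdisj a z hnaz)]
    simp only [S]
    ring
  have hreg : ∀ χ : B, 16 * ∑ g ∈ Finset.univ.filter (fun g : G => ¬ 2 ∣ orderOf g),
      (χ.1 : G → ℂ) g * conj ((χ.1 : G → ℂ) g) = (Nat.card G : ℂ) *
        ((16 - 4 * ∑ i, s χ i ^ 2 - 4 * ∑ i, t χ i ^ 2 + w χ ^ 2 : ℤ) : ℂ) := by
    intro χ
    push_cast
    simp only [sq]
    linear_combination 16 * hpart χ.1 - hSa χ - hSz χ - hSc χ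
  have hbound : ∀ χ : B, 4 * ∑ i, s χ i ^ 2 + 4 * ∑ i, t χ i ^ 2 < 16 + w χ ^ 2 := by
    intro χ
    have h1 := hreg χ
    have h2 : ∀ g : G, (χ.1 : G → ℂ) g * conj ((χ.1 : G → ℂ) g) =
        ((Complex.normSq ((χ.1 : G → ℂ) g) : ℝ) : ℂ) := fun g => Complex.mul_conj _
    simp only [h2, ← Complex.ofReal_sum] at h1
    have h3 : (16 : ℝ) * ∑ g ∈ Finset.univ.filter (fun g : G => ¬ 2 ∣ orderOf g),
        Complex.normSq ((χ.1 : G → ℂ) g) = (Nat.card G : ℝ) *
          ((16 - 4 * ∑ i, s χ i ^ 2 - 4 * ∑ i, t χ i ^ 2 + w χ ^ 2 : ℤ) : ℝ) := by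
      apply Complex.ofReal_injective
      push_cast at h1 ⊢
      exact h1
    have hpos : (0 : ℝ) < ∑ g ∈ Finset.univ.filter (fun g : G => ¬ 2 ∣ orderOf g),
        Complex.normSq ((χ.1 : G → ℂ) g) :=
      Finset.sum_pos' (fun g _ => Complex.normSq_nonneg _)
        ⟨1, by simp, Complex.normSq_pos.2 (Char.IsIrr.apply_one_ne_zero χ.1.2)⟩
    have h4 : (0 : ℝ) < ((16 - 4 * ∑ i, s χ i ^ 2 - 4 * ∑ i, t χ i ^ 2 + w χ ^ 2 : ℤ) : ℝ) := by
      by_contra hle
      push Not at hle
      have : (Nat.card G : ℝ) *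
          ((16 - 4 * ∑ i, s χ i ^ 2 - 4 * ∑ i, t χ i ^ 2 + w χ ^ 2 : ℤ) : ℝ) ≤ 0 :=
        mul_nonpos_of_nonneg_of_nonpos (Nat.cast_nonneg _) hle
      linarith
    have h5 := Int.cast_pos.1 h4
    linarith
  -- the rank
  have hrank : blockRank 2 B + 7 = Fintype.card B := by
    have h := card_mul_blockRank hM hB
    rw [Finset.sum_congr rfl fun g _ => finsum_mem_eq_finite_toFinset_sum _ (Set.toFinite B),
      Finset.sum_comm, Finset.sum_subtype (p := (· ∈ B)) (F := instB) _ (fun χ => by simp)] at h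
    rw [Finset.sum_congr rfl (g := fun χ : B => ∑ g ∈ Finset.univ.filter (fun g : G => ¬ 2 ∣ orderOf g),
      (χ.1 : G → ℂ) g * conj ((χ.1 : G → ℂ) g)) fun χ _ => ?_] at h
    swap
    · rw [Finset.sum_filter]
      refine Finset.sum_congr rfl fun g _ => ?_
      rw [pRegularPart_eq_regCut, Char.regCut, Char.IsIrr.map_inv χ.1.2]
      by_cases hg : 2 ∣ orderOf g <;> simp [hg]
    have h16 := congrArg (16 * ·) h
    simp only [Finset.mul_sum, hreg] at h16
    rw [← Finset.mul_sum, mul_left_comm] at h16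
    have h17 := mul_left_cancel₀ (Nat.cast_ne_zero.2 Nat.card_pos.ne') h16
    rw [← Int.cast_sum] at h17
    have e1 : ∑ χ : B, ∑ i, s χ i ^ 2 = 16 := by
      rw [Finset.sum_comm, Finset.sum_congr rfl (g := fun _ => (4 : ℤ)) fun i _ =>
        by simpa [sq] using gss i i]
      simp
    have e2 : ∑ χ : B, ∑ i, t χ i ^ 2 = 16 := by
      rw [Finset.sum_comm, Finset.sum_congr rfl (g := fun _ => (4 : ℤ)) fun i _ =>
        by simpa [sq] using gtt i i]
      simp
    have e3 : ∑ χ : B, w χ ^ 2 = 16 := by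
      apply (Int.cast_injective (α := ℂ))
      push_cast
      simpa [sq] using eww
    have h18 : (16 * (blockRank 2 B : ℤ) : ℤ) =
        ∑ χ : B, (16 - 4 * ∑ i, s χ i ^ 2 - 4 * ∑ i, t χ i ^ 2 + w χ ^ 2) := by
      apply (Int.cast_injective (α := ℂ))
      push_cast at h17 ⊢
      simp only [Finset.mul_sum] at h17 ⊢
      linear_combination h17
    simp only [Finset.sum_add_distrib, Finset.sum_sub_distrib, ← Finset.mul_sum, e1, e2, e3,
      Finset.sum_const, Finset.card_univ, nsmul_eq_mul] at h18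
    push_cast at h18
    omega
  -- sixteen or eight
  let D : Cols B :=
    { w := fun χ => |w χ|
      s := fun χ i => (w χ).sign * s χ i
      t := fun χ i => (w χ).sign * t χ i
      w_pos := fun χ => abs_pos.2 (hw0 χ)
      sum_s := fun χ => by rw [← Finset.mul_sum, (hsum χ).1, Int.sign_mul_self_eq_abs]
      sum_t := fun χ => by rw [← Finset.mul_sum, (hsum χ).2, Int.sign_mul_self_eq_abs]
      gram_s := fun i j => by
        rw [← gss i j]
        refine Finset.sum_congr rfl fun χ _ => ?_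
        rw [mul_mul_mul_comm, ← Int.sign_mul, Int.sign_eq_one_of_pos (mul_self_pos.2 (hw0 χ)), one_mul]
      gram_t := fun i j => by
        rw [← gtt i j]
        refine Finset.sum_congr rfl fun χ _ => ?_
        rw [mul_mul_mul_comm, ← Int.sign_mul, Int.sign_eq_one_of_pos (mul_self_pos.2 (hw0 χ)), one_mul]
      cross := fun i j => by
        rw [← gst i j]
        refine Finset.sum_congr rfl fun χ _ => ?_
        rw [mul_mul_mul_comm, ← Int.sign_mul, Int.sign_eq_one_of_pos (mul_self_pos.2 (hw0 χ)), one_mul]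
      bound := fun χ => by
        have hsg : (w χ).sign ^ 2 = 1 := by
          rw [sq, ← Int.sign_mul, Int.sign_eq_one_of_pos (mul_self_pos.2 (hw0 χ))]
        simpa [mul_pow, hsg, sq_abs] using hbound χ }
  rw [Nat.card_eq_fintype_card]
  rcases card_eq D with h | h
  · exact ⟨h, by omega⟩
  · exfalso
    have hc := (blockRank_principal_eq_one_iff hM).1 (by rw [← hBdef]; omega)
    obtain ⟨N, hN, hNP⟩ := (Transfer.exists_complement_iff P).2 hc
    obtain ⟨z', hz2, hz21, hzz⟩ : ∃ z' ∈ W, z' ≠ 1 ∧ z' ≠ z := by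
      by_contra hcon
      push Not at hcon
      have hsub : (W : Set G) ⊆ ({1, z} : Set G) := fun x hx => by
        by_cases h : x = 1
        · exact Or.inl h
        · exact Or.inr (hcon x hx h)
      have h := Set.ncard_le_ncard hsub
      rw [Set.ncard_pair (Ne.symm hz1), ← Nat.card_coe_set_eq,
        show Nat.card (W : Set G) = 4 from F.card_right] at h
      omega
    obtain ⟨n, -, -, hn⟩ := F.trans_right z hz hz1 z' hz2 hz21
    obtain ⟨⟨⟨m, hm⟩, ⟨q, hq⟩⟩, hmq⟩ := hNP.2 n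
    simp only at hmq
    rw [← hmq, show m * q * z * (m * q)⁻¹ = m * (q * z * q⁻¹) * m⁻¹ by group,
      (commute_of_mem F hq (F.right_le hz)).eq, mul_inv_cancel_right] at hn
    have hdis : m * (z * m⁻¹ * z⁻¹) ∈ N ⊓ (P : Subgroup G) := by
      refine ⟨mul_mem hm (hN.conj_mem _ (inv_mem hm) z), ?_⟩
      show m * (z * m⁻¹ * z⁻¹) ∈ (P : Subgroup G)
      rw [show m * (z * m⁻¹ * z⁻¹) = (m * z * m⁻¹) * z⁻¹ by group, hn]
      exact mul_mem (F.right_le hz2) (inv_mem (F.right_le hz))
    rw [disjoint_iff.1 hNP.disjoint, Subgroup.mem_bot,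
      show m * (z * m⁻¹ * z⁻¹) = (m * z * m⁻¹) * z⁻¹ by group, hn, mul_inv_eq_one] at hdis
    exact hzz hdis

end CfsgLib.SixteenNine
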