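import Cfsg.Agent.Lib.Transfer.Fusion

/-!
# An automizer of order nine on an elementary abelian group of order sixteen

A Sylow `2`-subgroup of order sixteen and exponent two with automizer of order nine is the product
of two subgroups of order four normalized by the normalizer, each centralized by a subgroup of the
normalizer which is transitive on the nontrivial elements of the other.
-/

set_option autoImplicit false

namespace CfsgLib.SixteenNine

variable {G : Type*} [Group G] [Finite G]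

/-- The two factors. -/
structure Factors (P : Sylow 2 G) (V W : Subgroup G) : Prop where
  comm : IsMulCommutative (P : Subgroup G)
  exp : ∀ x ∈ (P : Subgroup G), x ^ 2 = 1
  card_P : Nat.card (P : Subgroup G) = 16
  left_le : V ≤ (P : Subgroup G)
  right_le : W ≤ (P : Subgroup G)
  card_left : Nat.card V = 4
  card_right : Nat.card W = 4
  inf_eq : V ⊓ W = ⊥
  split : ∀ x ∈ (P : Subgroup G), ∃ a ∈ V, ∃ z ∈ W, x = a * z
  stable : ∀ n ∈ Subgroup.normalizer ((P : Subgroup G) : Set G),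
    (∀ a ∈ V, n * a * n⁻¹ ∈ V) ∧ (∀ z ∈ W, n * z * n⁻¹ ∈ W)
  fix_left : ∀ a ∈ V, a ≠ 1 → ∀ n ∈ Subgroup.normalizer ((P : Subgroup G) : Set G),
    n * a * n⁻¹ = a → ∀ a' ∈ V, n * a' * n⁻¹ = a'
  fix_right : ∀ z ∈ W, z ≠ 1 → ∀ n ∈ Subgroup.normalizer ((P : Subgroup G) : Set G),
    n * z * n⁻¹ = z → ∀ z' ∈ W, n * z' * n⁻¹ = z'
  trans_right : ∀ z ∈ W, z ≠ 1 → ∀ z' ∈ W, z' ≠ 1 →
    ∃ n ∈ Subgroup.normalizer ((P : Subgroup G) : Set G),
      (∀ a ∈ V, n * a * n⁻¹ = a) ∧ n * z * n⁻¹ = z'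
  trans_left : ∀ a ∈ V, a ≠ 1 → ∀ a' ∈ V, a' ≠ 1 →
    ∃ n ∈ Subgroup.normalizer ((P : Subgroup G) : Set G),
      (∀ z ∈ W, n * z * n⁻¹ = z) ∧ n * a * n⁻¹ = a'

omit [Finite G] in
theorem Factors.symm {P : Sylow 2 G} {V W : Subgroup G} (h : Factors P V W) : Factors P W V where
  comm := h.comm
  exp := h.exp
  card_P := h.card_P
  left_le := h.right_le
  right_le := h.left_le
  card_left := h.card_right
  card_right := h.card_left
  inf_eq := by rw [inf_comm]; exact h.inf_eq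
  split x hx := by
    obtain ⟨a, ha, z, hz, rfl⟩ := h.split x hx
    exact ⟨z, hz, a, ha, congrArg Subtype.val
      (h.comm.is_comm.comm ⟨a, h.left_le ha⟩ ⟨z, h.right_le hz⟩)⟩
  stable n hn := ⟨(h.stable n hn).2, (h.stable n hn).1⟩
  fix_left := h.fix_right
  fix_right := h.fix_left
  trans_right := h.trans_left
  trans_left := h.trans_right

/-- The fixed subgroup of an automorphism. -/
def fixedSub {P : Type*} [Group P] (σ : MulAut P) : Subgroup P :=
  MonoidHom.eqLocus σ.toMonoidHom (MonoidHom.id P)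

theorem mem_fixedSub {P : Type*} [Group P] {σ : MulAut P} {x : P} :
    x ∈ fixedSub σ ↔ σ x = x := Iff.rfl

/-- The subgroup fixed by a group of automorphisms. -/
def fixedAll {P : Type*} [Group P] (A : Subgroup (MulAut P)) : Subgroup P :=
  ⨅ σ ∈ A, fixedSub σ

section Abstract

variable {P : Type*} [CommGroup P] [Finite P] {A : Subgroup (MulAut P)}
  (h16 : Nat.card P = 16) (h9 : Nat.card A = 9)
include h16 h9

theorem card_fixed_mod {B : Subgroup (MulAut P)} (hB : B ≤ A) :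
    Nat.card (fixedAll B) % 3 = 1 := by
  have : Fact (Nat.Prime 3) := ⟨Nat.prime_three⟩
  have hA : IsPGroup 3 A := IsPGroup.of_card (n := 2) (by rw [h9]; norm_num)
  have h := (hA.to_le hB).card_modEq_card_fixedPoints (α := P)
  have he : Nat.card (MulAction.fixedPoints B P) = Nat.card (fixedAll B) :=
    Nat.card_congr (Equiv.subtypeEquivRight fun x => by
      simp only [MulAction.mem_fixedPoints, fixedAll, Subgroup.mem_iInf, mem_fixedSub,
        Subtype.forall]
      exact ⟨fun hx σ hσ => hx σ hσ, fun hx σ hσ => hx σ hσ⟩)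
  rw [he, h16] at h
  exact h.symm

omit h16 h9 [Finite P] in
theorem fixedAll_zpowers (σ : MulAut P) : fixedAll (Subgroup.zpowers σ) = fixedSub σ := by
  refine le_antisymm (iInf₂_le σ (Subgroup.mem_zpowers σ)) fun x hx => ?_
  simp only [fixedAll, Subgroup.mem_iInf, mem_fixedSub]
  have hle : Subgroup.zpowers σ ≤ MulAction.stabilizer (MulAut P) x :=
    Subgroup.zpowers_le.2 hx
  exact fun τ hτ => hle hτ

theorem card_fixedSub {σ : MulAut P} (hσ : σ ∈ A) (hne : σ ≠ 1) :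
    Nat.card (fixedSub σ) = 1 ∨ Nat.card (fixedSub σ) = 4 := by
  have hmod := card_fixed_mod h16 h9 (Subgroup.zpowers_le.2 hσ)
  rw [fixedAll_zpowers] at hmod
  have hdvd : Nat.card (fixedSub σ) ∣ 2 ^ 4 := by
    rw [show (2 : ℕ) ^ 4 = 16 by norm_num, ← h16]; exact Subgroup.card_subgroup_dvd_card _
  obtain ⟨k, hk, hk'⟩ := (Nat.dvd_prime_pow Nat.prime_two).1 hdvd
  rw [hk'] at hmod ⊢
  have hk4 : k ≠ 4 := fun e => hne (MulEquiv.ext fun x => by
    have h : fixedSub σ = ⊤ := Subgroup.eq_top_of_card_eq _ (by rw [hk', e, h16]; norm_num)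
    exact mem_fixedSub.1 (h ▸ Subgroup.mem_top x))
  interval_cases k <;> simp_all

/-- Outside a stable subset that is too small to be a union of regular orbits, some nontrivial
automorphism fixes a point. -/
theorem exists_fixed_outside (F : Subgroup P) (hF : ∀ σ ∈ A, ∀ x ∈ F, σ x ∈ F)
    (hc : Nat.card F = 1 ∨ Nat.card F = 4) :
    ∃ σ ∈ A, σ ≠ 1 ∧ ∃ x, x ∉ F ∧ σ x = x := by
  classical
  by_contra hcon
  push Not at hcon
  have := Fintype.ofFinite P
  have := Fintype.ofFinite A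
  set S := Finset.univ.filter fun x : P => x ∉ F with hS
  have hSc : S.card = 16 - Nat.card F := by
    rw [hS, Finset.filter_not, Finset.card_sdiff_of_subset (Finset.filter_subset _ _),
      Finset.card_univ, ← Nat.card_eq_fintype_card, h16, Nat.card_eq_fintype_card,
      Fintype.card_subtype]
  let orb : P → Finset P := fun x => Finset.univ.image fun σ : A => (σ : MulAut P) x
  have horb : ∀ x ∈ S, orb x ⊆ S ∧ (orb x).card = 9 := by
    intro x hx
    have hxF : x ∉ F := (Finset.mem_filter.1 hx).2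
    refine ⟨fun y hy => ?_, ?_⟩
    · obtain ⟨σ, -, rfl⟩ := Finset.mem_image.1 hy
      refine Finset.mem_filter.2 ⟨Finset.mem_univ _, fun h => hxF ?_⟩
      have := hF (σ : MulAut P)⁻¹ (inv_mem σ.2) _ h
      rwa [MulAut.inv_apply_self] at this
    · rw [Finset.card_image_of_injective _ fun σ τ h => ?_, Finset.card_univ,
        ← Nat.card_eq_fintype_card, h9]
      by_contra hne
      refine hcon ((τ : MulAut P)⁻¹ * σ) (mul_mem (inv_mem τ.2) σ.2)
        (fun e => hne (Subtype.ext (inv_mul_eq_one.1 e).symm)) x hxF ?_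
      rw [MulAut.mul_apply, h, MulAut.inv_apply_self]
  obtain ⟨x, hx⟩ : S.Nonempty := Finset.card_pos.1 (by omega)
  obtain ⟨hsub, h9x⟩ := horb x hx
  obtain ⟨y, hy, hyx⟩ : ∃ y ∈ S, y ∉ orb x :=
    Finset.exists_mem_notMem_of_card_lt_card (by omega)
  obtain ⟨hsub', h9y⟩ := horb y hy
  have hd : Disjoint (orb x) (orb y) := Finset.disjoint_left.2 fun w hw hw' => by
    obtain ⟨σ, -, rfl⟩ := Finset.mem_image.1 hw
    obtain ⟨τ, -, hτ⟩ := Finset.mem_image.1 hw'
    exact hyx (Finset.mem_image.2 ⟨τ⁻¹ * σ, Finset.mem_univ _, by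
      rw [Subgroup.coe_mul, MulAut.mul_apply, ← hτ, Subgroup.coe_inv, MulAut.inv_apply_self]⟩)
  have := Finset.card_le_card (Finset.union_subset hsub hsub')
  rw [Finset.card_union_of_disjoint hd] at this
  omega

/-- The decomposition. -/
theorem exists_pair : ∃ g h : MulAut P, g ∈ A ∧ h ∈ A ∧ g ≠ 1 ∧ h ≠ 1 ∧
    (∀ σ ∈ A, ∀ x, σ x = x → ∀ τ ∈ A, σ (τ x) = τ x) ∧
    Nat.card (fixedSub g) = 4 ∧ Nat.card (fixedSub h) = 4 ∧ fixedSub g ⊓ fixedSub h = ⊥ ∧
    ∀ x, ∃ a ∈ fixedSub g, ∃ z ∈ fixedSub h, x = a * z := by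
  have : Fact (Nat.Prime 3) := ⟨Nat.prime_three⟩
  have hcomm : ∀ σ ∈ A, ∀ τ ∈ A, σ * τ = τ * σ := fun σ hσ τ hτ =>
    congrArg Subtype.val ((IsPGroup.isMulCommutative_of_card_eq_prime_sq (p := 3) (G := A)
      (by rw [h9]; norm_num)).is_comm.comm ⟨σ, hσ⟩ ⟨τ, hτ⟩)
  have hst : ∀ σ ∈ A, ∀ x, σ x = x → ∀ τ ∈ A, σ (τ x) = τ x := fun σ hσ x hx τ hτ => by
    rw [← MulAut.mul_apply, hcomm σ hσ τ hτ, MulAut.mul_apply, hx]
  obtain ⟨g, hg, hg1, x, hx, hgx⟩ := exists_fixed_outside h16 h9 ⊥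
    (fun σ _ x hx => by rw [Subgroup.mem_bot.1 hx, map_one]; exact one_mem _)
    (Or.inl Subgroup.card_bot)
  have hgc : Nat.card (fixedSub g) = 4 := (card_fixedSub h16 h9 hg hg1).resolve_left fun e => by
    rw [Subgroup.card_eq_one] at e
    exact hx (e ▸ hgx)
  obtain ⟨h, hh, hh1, y, hy, hhy⟩ := exists_fixed_outside h16 h9 (fixedSub g)
    (fun σ hσ x hx => hst g hg x hx σ hσ) (Or.inr hgc)
  have hhc : Nat.card (fixedSub h) = 4 := (card_fixedSub h16 h9 hh hh1).resolve_left fun e => by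
    rw [Subgroup.card_eq_one] at e
    have : y = 1 := Subgroup.mem_bot.1 (e ▸ hhy)
    exact hy (this ▸ one_mem _)
  have hne : fixedSub g ≠ fixedSub h := fun e => hy (e ▸ hhy)
  have hA : A = Subgroup.zpowers g ⊔ Subgroup.zpowers h := by
    set B := Subgroup.zpowers g ⊔ Subgroup.zpowers h
    have hBA : B ≤ A := sup_le (Subgroup.zpowers_le.2 hg) (Subgroup.zpowers_le.2 hh)
    refine (Subgroup.eq_of_le_of_card_ge hBA ?_).symm
    have hdvd : Nat.card B ∣ 3 ^ 2 := by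
      rw [show (3 : ℕ) ^ 2 = 9 by norm_num, ← h9]; exact Subgroup.card_dvd_of_le hBA
    obtain ⟨k, hk, hk'⟩ := (Nat.dvd_prime_pow Nat.prime_three).1 hdvd
    rw [h9]
    by_contra hlt
    have hk1 : Nat.card B ≤ 3 := by
      rw [hk']
      interval_cases k <;> simp_all
    have hgB : Subgroup.zpowers g = B := Subgroup.eq_of_le_of_card_ge le_sup_left (by
      rw [Nat.card_zpowers]
      have h3 : orderOf g ∣ 3 ^ 2 := by
        rw [show (3 : ℕ) ^ 2 = 9 by norm_num, ← h9, ← Subgroup.orderOf_mk g hg]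
        exact orderOf_dvd_natCard _
      obtain ⟨j, hj, hj'⟩ := (Nat.dvd_prime_pow Nat.prime_three).1 h3
      have : j ≠ 0 := fun e => hg1 (orderOf_eq_one_iff.1 (by rw [hj', e]; rfl))
      rw [hj']
      calc Nat.card B ≤ 3 := hk1
        _ = 3 ^ 1 := rfl
        _ ≤ 3 ^ j := Nat.pow_le_pow_right (by norm_num) (by omega))
    have hle : fixedSub g ≤ fixedSub h := fun w hw => by
      have hmem : h ∈ Subgroup.zpowers g := hgB ▸ Subgroup.mem_sup_right (Subgroup.mem_zpowers h)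
      have h1 : w ∈ fixedAll (Subgroup.zpowers g) := by rw [fixedAll_zpowers]; exact hw
      simp only [fixedAll, Subgroup.mem_iInf] at h1
      exact h1 h hmem
    exact hne (Subgroup.eq_of_le_of_card_ge hle (by omega))
  have hinf : fixedSub g ⊓ fixedSub h = ⊥ := by
    have hall : fixedSub g ⊓ fixedSub h ≤ fixedAll A := fun w hw => by
      simp only [fixedAll, Subgroup.mem_iInf]
      have hle : A ≤ MulAction.stabilizer (MulAut P) w := by
        rw [hA]
        exact sup_le (Subgroup.zpowers_le.2 hw.1) (Subgroup.zpowers_le.2 hw.2)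
      exact fun σ hσ => hle hσ
    have hle : fixedAll A ≤ fixedSub g ⊓ fixedSub h :=
      le_inf (iInf₂_le g hg) (iInf₂_le h hh)
    have hmod := card_fixed_mod h16 h9 (le_refl A)
    rw [le_antisymm hle hall] at hmod
    have hdvd : Nat.card (fixedSub g ⊓ fixedSub h : Subgroup P) ∣ 2 ^ 2 := by
      rw [show (2 : ℕ) ^ 2 = 4 by norm_num, ← hgc]; exact Subgroup.card_dvd_of_le inf_le_left
    obtain ⟨k, hk, hk'⟩ := (Nat.dvd_prime_pow Nat.prime_two).1 hdvd
    rw [← Subgroup.card_eq_one]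
    rw [hk'] at hmod ⊢
    interval_cases k
    · rfl
    · simp at hmod
    · refine absurd ?_ hne
      have e := Subgroup.eq_of_le_of_card_ge
        (inf_le_left : fixedSub g ⊓ fixedSub h ≤ fixedSub g) (by omega)
      exact Subgroup.eq_of_le_of_card_ge (e ▸ inf_le_right) (by omega)
  refine ⟨g, h, hg, hh, hg1, hh1, hst, hgc, hhc, hinf, fun w => ?_⟩
  have hcomp : Subgroup.IsComplement' (fixedSub g) (fixedSub h) :=
    Subgroup.isComplement'_of_card_mul_and_disjoint (by rw [hgc, hhc, h16])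
      (disjoint_iff.2 hinf)
  obtain ⟨⟨a, z⟩, hw⟩ := hcomp.2 w
  exact ⟨a, a.2, z, z.2, hw.symm⟩

/-- Properties of the factors. -/
theorem pair_props {g h : MulAut P} (hg : g ∈ A) (hh : h ∈ A) (hg1 : g ≠ 1)
    (hst : ∀ σ ∈ A, ∀ x, σ x = x → ∀ τ ∈ A, σ (τ x) = τ x)
    (hgc : Nat.card (fixedSub g) = 4) (hhc : Nat.card (fixedSub h) = 4)
    (hinf : fixedSub g ⊓ fixedSub h = ⊥)
    (_hsp : ∀ x, ∃ a ∈ fixedSub g, ∃ z ∈ fixedSub h, x = a * z) :
    (∀ σ ∈ A, ∀ a ∈ fixedSub g, a ≠ 1 → σ a = a → ∀ a' ∈ fixedSub g, σ a' = a') ∧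
    (∀ z ∈ fixedSub h, z ≠ 1 → ∀ z' ∈ fixedSub h, z' ≠ 1 → ∃ σ ∈ A,
      (∀ a ∈ fixedSub g, σ a = a) ∧ σ z = z') := by
  classical
  have : Fact (Nat.Prime 3) := ⟨Nat.prime_three⟩
  refine ⟨fun σ hσ a ha ha1 hfix => ?_, fun z hz hz1 z' hz' hz1' => ?_⟩
  · have hpg : IsPGroup 3 (Subgroup.zpowers σ) :=
      (IsPGroup.of_card (n := 2) (by rw [h9]; norm_num) : IsPGroup 3 A).to_le
        (Subgroup.zpowers_le.2 hσ)
    let _ : MulAction (Subgroup.zpowers σ) (fixedSub g) :=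
      { smul := fun τ x => ⟨(τ : MulAut P) x,
          hst g hg x x.2 τ (Subgroup.zpowers_le.2 hσ τ.2)⟩
        one_smul := fun x => rfl
        mul_smul := fun τ τ' x => rfl }
    have h := hpg.card_modEq_card_fixedPoints (α := fixedSub g)
    have he : Nat.card (MulAction.fixedPoints (Subgroup.zpowers σ) (fixedSub g)) =
        Nat.card (fixedSub σ ⊓ fixedSub g : Subgroup P) := by
      refine Nat.card_congr
        { toFun := fun x => ⟨x.1.1, congrArg Subtype.val (x.2 ⟨σ, Subgroup.mem_zpowers σ⟩), x.1.2⟩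
          invFun := fun x => ⟨⟨x.1, x.2.2⟩, fun τ => Subtype.ext ?_⟩
          left_inv := fun _ => rfl
          right_inv := fun _ => rfl }
      have hle : Subgroup.zpowers σ ≤ MulAction.stabilizer (MulAut P) x.1 :=
        Subgroup.zpowers_le.2 x.2.1
      exact hle τ.2
    rw [he, hgc] at h
    have hdvd : Nat.card (fixedSub σ ⊓ fixedSub g : Subgroup P) ∣ 2 ^ 2 := by
      rw [show (2 : ℕ) ^ 2 = 4 by norm_num, ← hgc]; exact Subgroup.card_dvd_of_le inf_le_right
    obtain ⟨k, hk, hk'⟩ := (Nat.dvd_prime_pow Nat.prime_two).1 hdvd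
    rw [hk', Nat.ModEq] at h
    interval_cases k
    · rw [pow_zero, Subgroup.card_eq_one] at hk'
      exact absurd (Subgroup.mem_bot.1 (hk' ▸ (⟨hfix, ha⟩ : a ∈ fixedSub σ ⊓ fixedSub g))) ha1
    · simp at h
    · have e := Subgroup.eq_of_le_of_card_ge
        (inf_le_right : fixedSub σ ⊓ fixedSub g ≤ fixedSub g) (by omega)
      intro a' ha'
      rw [← e] at ha'
      exact ha'.1
  · have hnf : ∀ σ ∈ A, (∀ a ∈ fixedSub g, σ a = a) → σ ≠ 1 → σ z ≠ z := by
      intro σ hσ hσg hσ1 he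
      refine hσ1 (MulEquiv.ext fun w => ?_)
      have hc := card_fixedSub h16 h9 hσ hσ1
      have hle : fixedSub g ≤ fixedSub σ := hσg
      have hgσ : fixedSub g = fixedSub σ := by
        refine Subgroup.eq_of_le_of_card_ge hle ?_
        rcases hc with hc | hc <;> omega
      have : z ∈ fixedSub g ⊓ fixedSub h := ⟨hgσ ▸ he, hz⟩
      rw [hinf, Subgroup.mem_bot] at this
      exact absurd this hz1
    have hord : orderOf g ∣ 3 ^ 2 := by
      rw [show (3 : ℕ) ^ 2 = 9 by norm_num, ← h9, ← Subgroup.orderOf_mk g hg]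
      exact orderOf_dvd_natCard _
    have hg2 : g * g ≠ 1 := fun e => hg1 (orderOf_eq_one_iff.1 (Nat.eq_one_of_dvd_coprimes
      (Nat.Coprime.pow_left 2 (by norm_num : Nat.Coprime 3 2)) hord
      (orderOf_dvd_of_pow_eq_one (by rw [sq]; exact e))))
    have hgg : ∀ a ∈ fixedSub g, (g * g) a = a := fun a ha => by
      rw [MulAut.mul_apply, mem_fixedSub.1 ha, mem_fixedSub.1 ha]
    have hmem : ∀ σ ∈ A, σ z ∈ fixedSub h ∧ σ z ≠ 1 := fun σ hσ =>
      ⟨hst h hh z hz σ hσ, fun e => hz1 (σ.injective (e.trans (map_one σ).symm))⟩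
    have := Fintype.ofFinite P
    set S := Finset.univ.filter fun w : P => w ∈ fixedSub h ∧ w ≠ 1 with hS
    have hS3 : S.card = 3 := by
      have : S = (Finset.univ.filter fun w : P => w ∈ fixedSub h).erase 1 := by
        ext w; simp [hS, and_comm]
      rw [this, Finset.card_erase_of_mem (by simp [one_mem]), ← Fintype.card_subtype,
        ← Nat.card_eq_fintype_card, hhc]
    have hsub : ({z, g z, (g * g) z} : Finset P) ⊆ S := by
      intro w hw
      simp only [Finset.mem_insert, Finset.mem_singleton] at hw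
      rcases hw with rfl | rfl | rfl
      · simpa [hS] using ⟨hz, hz1⟩
      · simpa [hS] using hmem g hg
      · simpa [hS] using hmem (g * g) (mul_mem hg hg)
    have h1 : z ≠ g z := fun e => hnf g hg (fun a ha => ha) hg1 e.symm
    have h2 : z ≠ (g * g) z := fun e => hnf (g * g) (mul_mem hg hg) hgg hg2 e.symm
    have h3 : g z ≠ (g * g) z := fun e => h1 (g.injective (by rwa [MulAut.mul_apply] at e))
    have heq := Finset.eq_of_subset_of_card_le hsub (by
      rw [hS3, Finset.card_insert_of_notMem (by rw [Finset.mem_insert, Finset.mem_singleton]; tauto), Finset.card_pair h3])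
    have : z' ∈ ({z, g z, (g * g) z} : Finset P) := by
      rw [heq]; simpa [hS] using ⟨hz', hz1'⟩
    simp only [Finset.mem_insert, Finset.mem_singleton] at this
    rcases this with e | e | e
    · exact ⟨1, one_mem A, fun a _ => rfl, e.symm⟩
    · exact ⟨g, hg, fun a ha => ha, e.symm⟩
    · exact ⟨g * g, mul_mem hg hg, hgg, e.symm⟩

end Abstract

open scoped IsMulCommutative in
/-- Existence of the factors. -/
theorem exists_factors (P : Sylow 2 G) (hcard : Nat.card P = 16) (hel : ∀ x : P, x ^ 2 = 1)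
    (he : (Subgroup.centralizer ((P : Subgroup G) : Set G)).relIndex
      (Subgroup.normalizer ((P : Subgroup G) : Set G)) = 9) :
    ∃ V W : Subgroup G, Factors P V W := by
  have hinv : ∀ x : (P : Subgroup G), x⁻¹ = x := fun x =>
    inv_eq_of_mul_eq_one_right (by rw [← sq]; exact hel x)
  have hcomm : IsMulCommutative (P : Subgroup G) := ⟨⟨fun a b => by
    rw [← hinv (a * b), mul_inv_rev, hinv, hinv]⟩⟩
  set N := Subgroup.normalizer ((P : Subgroup G) : Set G)
  set A := ((P : Subgroup G).normalizerMonoidHom).range with hA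
  have h9 : Nat.card A = 9 := by
    rw [← Subgroup.index_ker, Subgroup.normalizerMonoidHom_ker]
    exact he
  have hof : ∀ σ ∈ A, ∃ n ∈ N, ∀ x : (P : Subgroup G), n * x * n⁻¹ = (σ x : G) := by
    rintro σ ⟨n, rfl⟩
    exact ⟨n, n.2, fun x => rfl⟩
  have hto : ∀ n ∈ N, ∃ σ ∈ A, ∀ x : (P : Subgroup G), n * x * n⁻¹ = (σ x : G) := fun n hn =>
    ⟨_, ⟨⟨n, hn⟩, rfl⟩, fun x => rfl⟩
  obtain ⟨g, h, hg, hh, hg1, hh1, hst, hgc, hhc, hinf, hsp⟩ := exists_pair hcard h9
  obtain ⟨hfl, htr⟩ := pair_props hcard h9 hg hh hg1 hst hgc hhc hinf hsp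
  obtain ⟨hfr, htl⟩ := pair_props hcard h9 hh hg hh1 hst hhc hgc (by rw [inf_comm]; exact hinf)
    (fun x => by
      obtain ⟨a, ha, z, hz, rfl⟩ := hsp x
      exact ⟨z, hz, a, ha, mul_comm _ _⟩)
  let ι := (P : Subgroup G).subtype
  have hmem : ∀ (F : Subgroup (P : Subgroup G)) (w : G),
      w ∈ F.map ι ↔ ∃ hw : w ∈ (P : Subgroup G), (⟨w, hw⟩ : (P : Subgroup G)) ∈ F :=
    fun F w => ⟨fun ⟨x, hx, e⟩ => e ▸ ⟨x.2, hx⟩, fun ⟨hw, hx⟩ => ⟨_, hx, rfl⟩⟩
  have hcardmap : ∀ F : Subgroup (P : Subgroup G), Nat.card (F.map ι) = Nat.card F := fun F =>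
    Subgroup.card_map_of_injective (P : Subgroup G).subtype_injective
  have hfix : ∀ F : Subgroup (P : Subgroup G),
      (∀ σ ∈ A, ∀ a ∈ F, a ≠ 1 → σ a = a → ∀ a' ∈ F, σ a' = a') →
      ∀ a ∈ F.map ι, a ≠ 1 → ∀ n ∈ N, n * a * n⁻¹ = a → ∀ a' ∈ F.map ι, n * a' * n⁻¹ = a' := by
    intro F hF a ha ha1 n hn hna a' ha'
    obtain ⟨σ, hσ, hσn⟩ := hto n hn
    obtain ⟨hw, hx⟩ := (hmem F a).1 ha
    obtain ⟨hw', hx'⟩ := (hmem F a').1 ha'
    have h1 := hF σ hσ ⟨a, hw⟩ hx (fun e => ha1 (congrArg Subtype.val e))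
      (Subtype.ext (by rw [← hσn]; exact hna)) ⟨a', hw'⟩ hx'
    have h2 := hσn ⟨a', hw'⟩
    rw [h1] at h2
    exact h2
  have htrans : ∀ F F' : Subgroup (P : Subgroup G),
      (∀ z ∈ F', z ≠ 1 → ∀ z' ∈ F', z' ≠ 1 → ∃ σ ∈ A, (∀ a ∈ F, σ a = a) ∧ σ z = z') →
      ∀ z ∈ F'.map ι, z ≠ 1 → ∀ z' ∈ F'.map ι, z' ≠ 1 →
        ∃ n ∈ N, (∀ a ∈ F.map ι, n * a * n⁻¹ = a) ∧ n * z * n⁻¹ = z' := by
    intro F F' hF z hz hz1 z' hz' hz1'
    obtain ⟨hw, hx⟩ := (hmem F' z).1 hz
    obtain ⟨hw', hx'⟩ := (hmem F' z').1 hz'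
    obtain ⟨σ, hσ, hσF, hσz⟩ := hF _ hx (fun e => hz1 (congrArg Subtype.val e)) _ hx'
      (fun e => hz1' (congrArg Subtype.val e))
    obtain ⟨n, hn, hnσ⟩ := hof σ hσ
    refine ⟨n, hn, fun a ha => ?_, ?_⟩
    · obtain ⟨ha', hax⟩ := (hmem F a).1 ha
      have h2 := hnσ ⟨a, ha'⟩
      rw [hσF _ hax] at h2
      exact h2
    · have h2 := hnσ ⟨z, hw⟩
      rw [hσz] at h2
      exact h2
  have hstable : ∀ σ₀ ∈ A, ∀ n ∈ N, ∀ a ∈ (fixedSub σ₀).map ι, n * a * n⁻¹ ∈ (fixedSub σ₀).map ι := by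
    intro σ₀ hσ₀ n hn a ha
    obtain ⟨σ, hσ, hσn⟩ := hto n hn
    obtain ⟨hw, hx⟩ := (hmem _ a).1 ha
    exact ⟨σ ⟨a, hw⟩, hst σ₀ hσ₀ _ hx σ hσ, (hσn ⟨a, hw⟩).symm⟩
  refine ⟨(fixedSub g).map ι, (fixedSub h).map ι,
    { comm := hcomm
      exp := fun x hx => congrArg Subtype.val (hel ⟨x, hx⟩)
      card_P := hcard
      left_le := Subgroup.map_subtype_le _
      right_le := Subgroup.map_subtype_le _
      card_left := (hcardmap _).trans hgc
      card_right := (hcardmap _).trans hhc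
      inf_eq := by
        rw [← Subgroup.map_inf _ _ _ (P : Subgroup G).subtype_injective, hinf, Subgroup.map_bot]
      split := fun x hx => ?_
      stable := fun n hn => ⟨hstable g hg n hn, hstable h hh n hn⟩
      fix_left := hfix _ hfl
      fix_right := hfix _ hfr
      trans_right := htrans _ _ htr
      trans_left := htrans _ _ htl }⟩
  obtain ⟨a, ha, z, hz, e⟩ := hsp ⟨x, hx⟩
  exact ⟨a, ⟨a, ha, rfl⟩, z, ⟨z, hz, rfl⟩, congrArg Subtype.val e⟩

end CfsgLib.SixteenNine
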