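import Cfsg.Agent.Lib.Blocks.KleinBlock

/-!
# The principal block of a Klein four Sylow subgroup as signed columns

For a group with Klein four Sylow `2`-subgroup and one class of involutions, the four principal
characters, their signs at an involution and their Gram matrix on the `2`-regular elements.
-/

set_option autoImplicit false

namespace CfsgLib.SixteenNine

open Cfsg CfsgLib.Blocks CfsgLib.Char
open scoped ComplexConjugate Classical

universe u

variable {K : Type u} [Group K] [Fintype K] (Q : Sylow 2 K) (hQ : IsKleinFour (Q : Subgroup K))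
  (hone : ∀ s t : K, orderOf s = 2 → orderOf t = 2 → IsConj s t)
include hQ hone

/-- A class function constant on the section of `z` sums to a quarter of the order times the
constant over the `2`-singular elements. -/
theorem sum_singular {z : K} (hzQ : z ∈ (Q : Subgroup K)) (hz : orderOf z = 2) {f : K → ℂ}
    (hf : IsClassFunction K f) {w : ℂ}
    (hw : ∀ y : Subgroup.centralizer ({z} : Set K), ¬ 2 ∣ orderOf y → f (z * (y : K)) = w) :
    4 * ∑ g ∈ Finset.univ.filter (fun g : K => 2 ∣ orderOf g), f g = (Nat.card K : ℂ) * w := by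
  have : Fact (Nat.Prime 2) := ⟨Nat.prime_two⟩
  obtain ⟨N, hN, hodd, hindex, hmem⟩ := exists_complement_centralizer Q hQ hzQ hz
  have hsec : ∀ g : K, 2 ∣ orderOf g ↔ ∃ u, IsPPart 2 g u ∧ IsConj u z := by
    intro g
    refine ⟨fun hg => ?_, fun ⟨u, hu, huz⟩ => (IsPPart.dvd_orderOf_iff Nat.prime_two hu).2 fun e => ?_⟩
    · obtain ⟨u, hu⟩ := exists_pPart Nat.prime_two g
      have hu1 : u ≠ 1 := (IsPPart.dvd_orderOf_iff Nat.prime_two hu).1 hg
      obtain ⟨m, -, -, k, hk⟩ := IsPPart.exists_exponent Nat.prime_two hu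
      obtain ⟨R, hR⟩ := (IsPGroup.of_card (n := k) (by rw [Nat.card_zpowers, hk]) :
        IsPGroup 2 (Subgroup.zpowers u)).exists_le_sylow
      obtain ⟨c, hc⟩ := MulAction.exists_smul_eq K R Q
      have hmemQ : c * u * c⁻¹ ∈ (Q : Subgroup K) := by
        rw [← hc, Sylow.coe_subgroup_smul]
        exact ⟨u, hR (Subgroup.mem_zpowers u), by simp⟩
      have h2 := orderOf_eq_two_of_mem_klein Q hQ hmemQ fun e => hu1 (conj_eq_one_iff.1 e)
      refine ⟨u, hu, hone u z ?_ hz⟩
      rw [← h2]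
      exact (MulEquiv.orderOf_eq (MulAut.conj c) u).symm
    · rw [e] at huz
      rw [isConj_one_right.1 huz, orderOf_one] at hz
      omega
  have h := sum_section (p := 2) (x := z) ⟨1, by rw [hz, pow_one]⟩ hf
  rw [Finset.sum_congr (s₂ := Finset.univ.filter fun g : K => ∃ u, IsPPart 2 g u ∧ IsConj u z)
    (by ext g; simp [hsec g]) fun _ _ => rfl]
  rw [Finset.sum_congr rfl (g := fun _ => w) fun y hy => hw y (Finset.mem_filter.1 hy).2,
    Finset.sum_const, nsmul_eq_mul] at h
  have hNc : (Finset.univ.filter fun y : Subgroup.centralizer ({z} : Set K) => ¬ 2 ∣ orderOf y).card =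
      Nat.card N := by
    rw [Nat.card_eq_fintype_card, Fintype.card_subtype]
    exact congrArg Finset.card (Finset.filter_congr fun y _ => hmem y)
  rw [hNc, ← N.card_mul_index, hindex, Nat.cast_mul] at h
  refine mul_left_cancel₀ (Nat.cast_ne_zero.2 (Nat.card_pos (α := N)).ne' : (Nat.card N : ℂ) ≠ 0) ?_
  push_cast at h
  linear_combination h

variable {M : Ideal AlgInt} [M.IsPrime] (hM : IsPModular 2 M)
include hM

/-- The signed columns. -/
theorem exists_columns {z : K} (hzQ : z ∈ (Q : Subgroup K)) (hz : orderOf z = 2) :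
    ∃ (ψ : Fin 4 → IrrCharacter K) (ε : Fin 4 → ℤ), Function.Injective ψ ∧
      (∀ χ, χ ∈ principalBlock M K ↔ ∃ i, ψ i = χ) ∧ (∀ i, ε i * ε i = 1) ∧
      (∀ i, ∀ y : Subgroup.centralizer ({z} : Set K), ¬ 2 ∣ orderOf y →
        (ψ i : K → ℂ) (z * (y : K)) = (ε i : ℂ)) ∧
      (∀ i j, ∑ g ∈ Finset.univ.filter (fun g : K => ¬ 2 ∣ orderOf g),
          (ψ i : K → ℂ) g * conj ((ψ j : K → ℂ) g) =
        (Nat.card K : ℂ) * ((if i = j then 1 else 0) - (ε i : ℂ) * (ε j : ℂ) / 4)) ∧
      ∀ g : K, ¬ 2 ∣ orderOf g → ∑ i, (ε i : ℂ) * (ψ i : K → ℂ) g = 0 := by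
  have : Fact (Nat.Prime 2) := ⟨Nat.prime_two⟩
  obtain ⟨h4, hsign⟩ := principal_signs Q hQ hone hM hzQ hz
  let e : principalBlock M K ≃ Fin 4 := Finite.equivFinOfCardEq h4
  let ψ : Fin 4 → IrrCharacter K := fun i => (e.symm i : IrrCharacter K)
  have hψ : ∀ i, ψ i ∈ principalBlock M K := fun i => (e.symm i).2
  have hinj : Function.Injective ψ := fun i j h => e.symm.injective (Subtype.ext h)
  choose ε hε using fun i => hsign (ψ i) (hψ i)
  have hval : ∀ i, ∀ y : Subgroup.centralizer ({z} : Set K), ¬ 2 ∣ orderOf y →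
      (ψ i : K → ℂ) (z * (y : K)) = (ε i : ℂ) := fun i y hy => by
    rw [apply_mul_eq_apply Q hQ hone hM hzQ hz (hψ i) hy, (hε i).2.1]
  refine ⟨ψ, ε, hinj, fun χ => ⟨fun h => ⟨e ⟨χ, h⟩, by simp [ψ]⟩, fun ⟨i, hi⟩ => hi ▸ hψ i⟩,
    fun i => by rcases (hε i).1 with h | h <;> simp [h], hval, fun i j => ?_, fun g hg => ?_⟩
  · have htot := Char.classInner_irr (ψ i) (ψ j)
    rw [classInner, inv_mul_eq_iff_eq_mul₀ (Nat.cast_ne_zero.2 Nat.card_pos.ne')] at htot
    have hsing := sum_singular Q hQ hone hzQ hz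
      (f := fun g => (ψ i : K → ℂ) g * conj ((ψ j : K → ℂ) g)) (w := (ε i : ℂ) * (ε j : ℂ))
      (fun g h => by
        show (ψ i : K → ℂ) _ * conj ((ψ j : K → ℂ) _) = _
        rw [Char.IsIrr.isClassFunction (ψ i).2, Char.IsIrr.isClassFunction (ψ j).2])
      (fun y hy => by rw [hval i y hy, hval j y hy, map_intCast])
    have hsplit := Finset.sum_filter_add_sum_filter_not Finset.univ
      (fun g : K => 2 ∣ orderOf g) (fun g => (ψ i : K → ℂ) g * conj ((ψ j : K → ℂ) g))
    rw [htot] at hsplit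
    have hδ : (if ψ i = ψ j then (1 : ℂ) else 0) = if i = j then 1 else 0 :=
      if_congr hinj.eq_iff rfl rfl
    rw [hδ] at hsplit
    linear_combination hsplit - hsing / 4
  · have h := sum_block_regular_singular hM (isPBlock_principalBlock (G := K) (M := M)) hg
      (y := z) (by rw [hz])
    rw [finsum_mem_eq_finite_toFinset_sum _ (Set.toFinite _)] at h
    refine Eq.trans ?_ h
    refine Finset.sum_bij (fun i _ => ψ i) (fun i _ => (Set.Finite.mem_toFinset _).2 (hψ i))
      (fun i _ j _ h => hinj h) (fun χ hχ => ?_) fun i _ => ?_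
    · exact ⟨e ⟨χ, (Set.Finite.mem_toFinset _).1 hχ⟩, Finset.mem_univ _, by simp [ψ]⟩
    · rw [(hε i).2.1, mul_comm]

end CfsgLib.SixteenNine
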