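import Cfsg.Agent.Lib.Blocks.SubsectionNorms
import Cfsg.Agent.Lib.Blocks.Principal

/-!
# Pairings of characters with class functions on a section

For a `p`-element `x` and a class function `h` on the `p`-regular elements of `C(x)` the sums
`∑ y, χ (x y) * h y` satisfy Parseval's identity over the irreducible characters, are orthogonal for
different sections, and vanish outside the principal block when `h` lies in the principal block of
`C(x)`.
-/

set_option autoImplicit false

namespace CfsgLib.SixteenNine

open Cfsg CfsgLib.Blocks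
open scoped ComplexConjugate

variable {G : Type*} [Group G] [Fintype G] {p : ℕ} [Fact p.Prime]

open scoped Classical in
/-- The pairing of a class function of `G` with `h` on the section of `x`. -/
noncomputable def pairing (p : ℕ) (x : G) (h : Subgroup.centralizer ({x} : Set G) → ℂ)
    (χ : G → ℂ) : ℂ :=
  ∑ y ∈ Finset.univ.filter (fun y : Subgroup.centralizer ({x} : Set G) => ¬ p ∣ orderOf y),
    χ (x * (y : G)) * h y

open scoped Classical in
/-- Parseval's identity on one section. -/
theorem sum_pairing_mul [Fintype (IrrCharacter G)] {x : G} (hx : ∃ k : ℕ, orderOf x = p ^ k)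
    {h h' : Subgroup.centralizer ({x} : Set G) → ℂ}
    (hh' : IsClassFunction (Subgroup.centralizer ({x} : Set G)) h') :
    ∑ χ : IrrCharacter G, pairing p x h (χ : G → ℂ) * conj (pairing p x h' (χ : G → ℂ)) =
      (Nat.card (Subgroup.centralizer ({x} : Set G)) : ℂ) *
        ∑ y ∈ Finset.univ.filter (fun y : Subgroup.centralizer ({x} : Set G) => ¬ p ∣ orderOf y),
          h y * conj (h' y) := by
  set R := Finset.univ.filter (fun y : (Subgroup.centralizer ({x} : Set G)) => ¬ p ∣ orderOf y) with hR
  have hinner : ∀ w ∈ R, ∑ w' ∈ R, conj (h' w') *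
      ∑ χ : IrrCharacter G, (χ : G → ℂ) (x * (w : G)) * conj ((χ : G → ℂ) (x * (w' : G))) =
        (Nat.card (Subgroup.centralizer ({x} : Set G)) : ℂ) * conj (h' w) := by
    intro w hw
    have hwr : ¬ p ∣ orderOf w := (Finset.mem_filter.1 hw).2
    have hmaps : ∀ c ∈ (Finset.univ : Finset (Subgroup.centralizer ({x} : Set G))), c * w * c⁻¹ ∈ R := fun c _ => by
      simp only [hR, Finset.mem_filter, Finset.mem_univ, true_and]
      rwa [show c * w * c⁻¹ = MulAut.conj c w from rfl, MulEquiv.orderOf_eq]
    rw [Nat.card_eq_fintype_card, ← Finset.card_univ, ← nsmul_eq_mul, ← Finset.sum_const,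
      ← Finset.sum_fiberwise_of_maps_to hmaps]
    refine Finset.sum_congr rfl fun w' hw' => ?_
    rw [Char.column_orthogonality,
      ← card_conj_eq_centralizer hx hwr (Finset.mem_filter.1 hw').2, Finset.sum_congr rfl
        (g := fun _ => conj (h' w')) fun c hc => ?_, Finset.sum_const, nsmul_eq_mul, mul_comm]
    rw [← (Finset.mem_filter.1 hc).2, hh' w c]
  simp only [pairing, map_sum, map_mul, Finset.sum_mul, Finset.mul_sum]
  rw [Finset.sum_comm]
  refine ((Finset.sum_congr rfl fun w' _ => Finset.sum_comm).trans Finset.sum_comm).trans ?_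
  refine Finset.sum_congr rfl fun w hw => ?_
  calc _ = h w * ∑ w' ∈ R, conj (h' w') * ∑ χ : IrrCharacter G,
        (χ : G → ℂ) (x * (w : G)) * conj ((χ : G → ℂ) (x * (w' : G))) := by
        simp only [Finset.mul_sum]
        exact Finset.sum_congr rfl fun w' _ => Finset.sum_congr rfl fun χ _ => by ring
    _ = _ := by rw [hinner w hw]; ring

open scoped Classical in
/-- Different sections are orthogonal. -/
theorem sum_pairing_mul_eq_zero [Fintype (IrrCharacter G)] {x x' : G}
    (hx : ∃ k : ℕ, orderOf x = p ^ k) (hx' : ∃ k : ℕ, orderOf x' = p ^ k) (hne : ¬ IsConj x x')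
    (h : Subgroup.centralizer ({x} : Set G) → ℂ) (h' : Subgroup.centralizer ({x'} : Set G) → ℂ) :
    ∑ χ : IrrCharacter G, pairing p x h (χ : G → ℂ) * conj (pairing p x' h' (χ : G → ℂ)) = 0 := by
  have hp : p.Prime := Fact.out
  simp only [pairing, map_sum, map_mul, Finset.sum_mul, Finset.mul_sum]
  rw [Finset.sum_comm]
  refine Finset.sum_eq_zero fun w hw => ?_
  rw [Finset.sum_comm]
  refine Finset.sum_eq_zero fun w' hw' => ?_
  rw [Finset.sum_congr rfl (g := fun χ : IrrCharacter G => (h w' * conj (h' w)) *
      ((χ : G → ℂ) (x * (w' : G)) * conj ((χ : G → ℂ) (x' * (w : G))))) fun χ _ => by ring,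
    ← Finset.mul_sum, Char.column_orthogonality, if_neg, mul_zero]
  intro hc
  obtain ⟨g, hg⟩ := isConj_iff.1 hc
  refine hne (isConj_iff.2 ⟨g, ?_⟩)
  have h1 := conj_pPart_eq hp (isPPart_mul_of_mem_centralizer hx' (Finset.mem_filter.1 hw).2)
    (isPPart_mul_of_mem_centralizer hx (Finset.mem_filter.1 hw').2) (x := g) (j := 1)
    (by simpa using hp.ne_one) (by rw [pow_one, pow_one, ← hg]; group)
  rw [← h1]; group

variable {M : Ideal AlgInt} [M.IsPrime] (hM : IsPModular p M)
include hM

open scoped Classical in
/-- Class functions in the principal block of `C(x)` pair to zero with the other blocks. -/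
theorem pairing_eq_zero {x : G} (hx : ∃ k : ℕ, orderOf x = p ^ k)
    {h : Subgroup.centralizer ({x} : Set G) → ℂ}
    (hh : IsClassFunction (Subgroup.centralizer ({x} : Set G)) h)
    (hb : ∀ Ψ : IrrCharacter (Subgroup.centralizer ({x} : Set G)),
      classInner h (Ψ : Subgroup.centralizer ({x} : Set G) → ℂ) ≠ 0 →
        Ψ ∈ principalBlock M (Subgroup.centralizer ({x} : Set G)))
    {χ : IrrCharacter G} (hχ : χ ∉ principalBlock M G) :
    pairing p x (fun y => conj (h y)) (χ : G → ℂ) = 0 := by
  have := Fintype.ofFinite (IrrCharacter (Subgroup.centralizer ({x} : Set G)))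
  have := Fintype.ofFinite {b : Set (IrrCharacter (Subgroup.centralizer ({x} : Set G))) // IsPBlock M b}
  set f : (Subgroup.centralizer ({x} : Set G)) → ℂ := fun c => (χ : G → ℂ) (x * (c : G))
  have hf : IsClassFunction (Subgroup.centralizer ({x} : Set G)) f := Blocks.isClassFunction_translate χ
  have hb0 : IsPBlock M (principalBlock M (Subgroup.centralizer ({x} : Set G))) := isPBlock_principalBlock
  have hsum : ∀ y : (Subgroup.centralizer ({x} : Set G)), blockPart (principalBlock M (Subgroup.centralizer ({x} : Set G))) h y = h y := by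
    intro y
    rw [blockPart_eq, finsum_mem_eq_finite_toFinset_sum _ (Set.toFinite _),
      Char.classFunction_apply_eq_sum hh y]
    refine Finset.sum_subset (Finset.subset_univ _) fun Ψ _ hΨ => ?_
    by_contra hne
    exact hΨ ((Set.Finite.mem_toFinset _).2 (hb Ψ fun e => hne (by rw [e, zero_mul])))
  simp only [pairing]
  rw [Finset.sum_congr rfl (g := fun y => ∑ b : {b : Set (IrrCharacter (Subgroup.centralizer ({x} : Set G))) // IsPBlock M b},
      blockPart b.1 f y * conj (blockPart (principalBlock M (Subgroup.centralizer ({x} : Set G))) h y)) fun y _ => by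
    rw [← Finset.sum_mul, sum_blockPart hf y, hsum y], Finset.sum_comm]
  refine Finset.sum_eq_zero fun b _ => ?_
  by_cases hbe : b.1 = principalBlock M (Subgroup.centralizer ({x} : Set G))
  · refine Finset.sum_eq_zero fun y hy => ?_
    have h0 := blockPart_principal_translate hM hx χ (Finset.mem_filter.1 hy).2
    rw [if_neg hχ] at h0
    rw [hbe, show blockPart (principalBlock M (Subgroup.centralizer ({x} : Set G))) f y = 0 from h0, zero_mul]
  · exact sum_regular_blockPart_mul_eq_zero hM b.2 hb0 hbe f h

end CfsgLib.SixteenNine
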