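import Cfsg.Agent.Lib.Blocks.SixteenNine.Action
import Cfsg.Agent.Lib.Blocks.SixteenNine.Sections
import Cfsg.Agent.Lib.Blocks.Kernel
import Mathlib.GroupTheory.Transfer

/-!
# The sections of the mixed involutions

An involution with a component in each factor has centralizer with normal `2`-complement; the
principal block is constant on its section.
-/

set_option autoImplicit false

namespace CfsgLib.SixteenNine

open Cfsg CfsgLib.Blocks
open scoped ComplexConjugate Classical

variable {G : Type*} [Group G] [Fintype G]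

/-- Burnside: if `N_{C(y)}(P)` centralizes `P` then the centralizer has a normal complement. -/
theorem exists_complement_of_normalizer {p : ℕ} [Fact p.Prime] (P : Sylow p G) {y : G}
    (hle : (P : Subgroup G) ≤ Subgroup.centralizer ({y} : Set G))
    (h : ∀ n ∈ Subgroup.normalizer ((P : Subgroup G) : Set G), Commute n y →
      n ∈ Subgroup.centralizer ((P : Subgroup G) : Set G)) :
    ∃ (N : Subgroup (Subgroup.centralizer ({y} : Set G))) (_ : N.Normal),
      ¬ p ∣ Nat.card N ∧ N.index = Nat.card (P : Subgroup G) ∧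
      ∀ w : Subgroup.centralizer ({y} : Set G), ¬ p ∣ orderOf w ↔ w ∈ N := by
  let Cy := Subgroup.centralizer ({y} : Set G)
  let P' : Sylow p Cy := P.subtype hle
  have hP' : Subgroup.normalizer ((P' : Subgroup Cy) : Set Cy) ≤
      Subgroup.centralizer ((P' : Subgroup Cy) : Set Cy) := fun n hn => by
    have hnG : (n : G) ∈ Subgroup.normalizer ((P : Subgroup G) : Set G) := by
      refine Subgroup.mem_normalizer_iff.mpr fun x => ?_
      constructor
      · intro hx
        exact (Subgroup.mem_normalizer_iff.mp hn ⟨x, hle hx⟩).mp hx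
      · intro hx
        have hx' : x ∈ Cy := by
          have : x = (n : G)⁻¹ * ((n : G) * x * (n : G)⁻¹) * (n : G) := by group
          rw [this]
          exact mul_mem (mul_mem (inv_mem n.2) (hle hx)) n.2
        exact (Subgroup.mem_normalizer_iff.mp hn ⟨x, hx'⟩).mpr hx
    have hc := h n hnG (mem_centralizer_singleton.1 n.2)
    exact Subgroup.mem_centralizer_iff.mpr fun x hx => Subtype.ext
      (Subgroup.mem_centralizer_iff.mp hc x hx)
  let τ := MonoidHom.transferSylow P' hP'
  have hodd : ¬ p ∣ Nat.card τ.ker := MonoidHom.not_dvd_card_ker_transferSylow P' hP'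
  have hidx : τ.ker.index = Nat.card (P : Subgroup G) := by
    rw [(MonoidHom.ker_transferSylow_isComplement' P' hP').symm.index_eq_card]
    exact Nat.card_congr (Subgroup.subgroupOfEquivOfLe hle).toEquiv
  refine ⟨τ.ker, inferInstance, hodd, hidx, fun w => ⟨fun hw => ?_, fun hw hd =>
    hodd (hd.trans (Subgroup.orderOf_dvd_natCard _ hw))⟩⟩
  obtain ⟨k, hk⟩ := IsPGroup.iff_orderOf.1 P'.isPGroup' (τ w)
  have h1 : orderOf (τ w) ∣ orderOf w := orderOf_map_dvd τ w
  rw [MonoidHom.mem_ker, ← orderOf_eq_one_iff, hk]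
  rcases k with _ | k
  · exact pow_zero p
  · exact absurd ((dvd_pow_self p (Nat.succ_ne_zero k)).trans (hk ▸ h1)) hw

variable {P : Sylow 2 G} {V W : Subgroup G} (F : Factors P V W)
include F

omit [Fintype G] in
theorem commute_of_mem {x y : G} (hx : x ∈ (P : Subgroup G)) (hy : y ∈ (P : Subgroup G)) :
    Commute x y :=
  congrArg Subtype.val (F.comm.is_comm.comm ⟨x, hx⟩ ⟨y, hy⟩)

omit [Fintype G] in
theorem le_centralizer {x : G} (hx : x ∈ (P : Subgroup G)) :
    (P : Subgroup G) ≤ Subgroup.centralizer ({x} : Set G) := fun _ hy =>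
  mem_centralizer_singleton.2 (commute_of_mem F hy hx)

omit [Fintype G] in
theorem exists_orderOf {x : G} (hx : x ∈ (P : Subgroup G)) : ∃ k : ℕ, orderOf x = 2 ^ k := by
  obtain ⟨k, hk⟩ := IsPGroup.iff_orderOf.1 P.isPGroup' ⟨x, hx⟩
  exact ⟨k, by rw [← hk, ← Subgroup.orderOf_coe]⟩

omit [Fintype G] in
theorem orderOf_eq_two {x : G} (hx : x ∈ (P : Subgroup G)) (hx1 : x ≠ 1) : orderOf x = 2 := by
  have : Fact (Nat.Prime 2) := ⟨Nat.prime_two⟩
  exact orderOf_eq_prime (F.exp x hx) hx1

omit [Fintype G] in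
theorem eq_one_of_left_right {x : G} (hv : x ∈ V) (hw : x ∈ W) : x = 1 := by
  have : x ∈ V ⊓ W := ⟨hv, hw⟩
  rwa [F.inf_eq, Subgroup.mem_bot] at this

omit [Fintype G] in
theorem unique_split {a a' z z' : G} (ha : a ∈ V) (ha' : a' ∈ V) (hz : z ∈ W) (hz' : z' ∈ W)
    (h : a * z = a' * z') : a = a' ∧ z = z' := by
  have h1 : a'⁻¹ * a = z' * z⁻¹ := by
    calc a'⁻¹ * a = a'⁻¹ * (a * z) * z⁻¹ := by group
      _ = z' * z⁻¹ := by rw [h]; group
  have h2 := eq_one_of_left_right F (mul_mem (inv_mem ha') ha)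
    (h1 ▸ mul_mem hz' (inv_mem hz))
  have ha2 : a = a' := (inv_mul_eq_one.1 h2).symm
  exact ⟨ha2, mul_left_cancel (ha2 ▸ h)⟩

omit [Fintype G] in
/-- A mixed involution is only centralized by centralizing elements of the normalizer. -/
theorem mem_centralizer_of_commute {a z : G} (ha : a ∈ V) (ha1 : a ≠ 1) (hz : z ∈ W)
    (hz1 : z ≠ 1) {n : G} (hn : n ∈ Subgroup.normalizer ((P : Subgroup G) : Set G))
    (hc : Commute n (a * z)) : n ∈ Subgroup.centralizer ((P : Subgroup G) : Set G) := by
  have hfix : n * a * n⁻¹ * (n * z * n⁻¹) = a * z := by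
    rw [show n * a * n⁻¹ * (n * z * n⁻¹) = n * (a * z) * n⁻¹ by group, hc.eq, mul_inv_cancel_right]
  obtain ⟨h1, h2⟩ := unique_split F ((F.stable n hn).1 a ha) ha ((F.stable n hn).2 z hz) hz hfix
  refine Subgroup.mem_centralizer_iff.2 fun x hx => ?_
  obtain ⟨a', ha', z', hz', rfl⟩ := F.split x hx
  have e1 := F.fix_left a ha ha1 n hn h1 a' ha'
  have e2 := F.fix_right z hz hz1 n hn h2 z' hz'
  rw [mul_inv_eq_iff_eq_mul] at e1 e2
  rw [mul_assoc, ← e2, ← mul_assoc, ← e1, mul_assoc]

omit [Fintype G] in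
/-- The mixed involutions are conjugate. -/
theorem isConj_mixed {a a' z z' : G} (ha : a ∈ V) (ha1 : a ≠ 1) (ha' : a' ∈ V) (ha1' : a' ≠ 1)
    (hz : z ∈ W) (hz1 : z ≠ 1) (hz' : z' ∈ W) (hz1' : z' ≠ 1) : IsConj (a * z) (a' * z') := by
  obtain ⟨n, -, hnV, hnz⟩ := F.trans_right z hz hz1 z' hz' hz1'
  obtain ⟨m, -, hmW, hma⟩ := F.trans_left a ha ha1 a' ha' ha1'
  refine isConj_iff.2 ⟨m * n, ?_⟩
  rw [show m * n * (a * z) * (m * n)⁻¹ = (m * (n * a * n⁻¹) * m⁻¹) * (m * (n * z * n⁻¹) * m⁻¹) by
    group, hnV a ha, hnz, hma, hmW z' hz']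

variable {M : Ideal AlgInt} [M.IsPrime] (hM : IsPModular 2 M) {a z : G} (ha : a ∈ V) (ha1 : a ≠ 1)
  (hz : z ∈ W) (hz1 : z ≠ 1)
include hM ha ha1 hz hz1

/-- A member of the principal block is constant on the section. -/
theorem apply_mul_mixed {χ : IrrCharacter G} (hχ : χ ∈ principalBlock M G)
    {y : Subgroup.centralizer ({a * z} : Set G)} (hy : ¬ 2 ∣ orderOf y) :
    (χ : G → ℂ) (a * z * (y : G)) = (χ : G → ℂ) (a * z) := by
  have : Fact (Nat.Prime 2) := ⟨Nat.prime_two⟩
  have hmem : a * z ∈ (P : Subgroup G) := mul_mem (F.left_le ha) (F.right_le hz)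
  obtain ⟨N, hN, hodd, -, hreg⟩ := exists_complement_of_normalizer P (le_centralizer F hmem)
    fun n hn hc => mem_centralizer_of_commute F ha ha1 hz hz1 hn hc
  exact apply_mul_eq_of_mem_principalBlock hM (exists_orderOf F hmem) hχ hodd ((hreg y).1 hy)

omit hM in
/-- The `2`-regular elements of the centralizer are a sixteenth of it. -/
theorem card_regular_mixed :
    16 * ((Finset.univ.filter fun y : Subgroup.centralizer ({a * z} : Set G) =>
        ¬ 2 ∣ orderOf y).card : ℂ) =
      (Nat.card (Subgroup.centralizer ({a * z} : Set G)) : ℂ) := by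
  have : Fact (Nat.Prime 2) := ⟨Nat.prime_two⟩
  have hmem : a * z ∈ (P : Subgroup G) := mul_mem (F.left_le ha) (F.right_le hz)
  obtain ⟨N, hN, -, hidx, hreg⟩ := exists_complement_of_normalizer P (le_centralizer F hmem)
    fun n hn hc => mem_centralizer_of_commute F ha ha1 hz hz1 hn hc
  rw [← N.card_mul_index, hidx, F.card_P, Nat.card_eq_fintype_card (α := N), Fintype.card_subtype,
    Finset.filter_congr fun y _ => hreg y]
  push_cast
  ring

/-- The pairing with the constant function. -/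
theorem pairing_mixed (χ : IrrCharacter G) :
    pairing 2 (a * z) (fun _ => conj (1 : ℂ)) (χ : G → ℂ) =
      if χ ∈ principalBlock M G then
        ((Finset.univ.filter fun y : Subgroup.centralizer ({a * z} : Set G) =>
          ¬ 2 ∣ orderOf y).card : ℂ) * (χ : G → ℂ) (a * z) else 0 := by
  have : Fact (Nat.Prime 2) := ⟨Nat.prime_two⟩
  split_ifs with hχ
  · simp only [pairing]
    rw [Finset.sum_congr rfl fun y hy => by
      rw [apply_mul_mixed F hM ha ha1 hz hz1 hχ (Finset.mem_filter.1 hy).2],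
      Finset.sum_const, nsmul_eq_mul, map_one, mul_one]
  · have hmem : a * z ∈ (P : Subgroup G) := mul_mem (F.left_le ha) (F.right_le hz)
    refine pairing_eq_zero hM (exists_orderOf F hmem) (h := fun _ => 1) (fun _ _ => rfl)
      (fun Ψ hΨ => ?_) hχ
    rw [show (fun _ : Subgroup.centralizer ({a * z} : Set G) => (1 : ℂ)) =
      ((Char.trivChar _ : IrrCharacter (Subgroup.centralizer ({a * z} : Set G))) :
        Subgroup.centralizer ({a * z} : Set G) → ℂ) from funext fun _ => by simp,
      Char.classInner_irr, ne_eq, ite_eq_right_iff, not_forall] at hΨ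
    exact hΨ.1 ▸ trivChar_mem_principalBlock

end CfsgLib.SixteenNine
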