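import Cfsg.Agent.Lib.Blocks.SixteenNine.Mixed
import Cfsg.Agent.Lib.Transfer.Abelian
import Cfsg.Agent.Lib.Blocks.KleinBlock
import Cfsg.Agent.Lib.ZStar.FusionCenter
import Cfsg.Agent.Lib.Blocks.Quotient

/-!
# The 2-residual of the centralizer of an involution of one factor

It has index four, contains the `2`-regular elements, meets the Sylow subgroup in the other factor,
has one class of involutions, and the centralizer fixes the characters of its principal block.
-/

set_option autoImplicit false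

namespace CfsgLib.SixteenNine

open Cfsg CfsgLib.Blocks CfsgLib.Transfer
open scoped commutatorElement

variable {G : Type*} [Group G] [Fintype G] {P : Sylow 2 G} {V W : Subgroup G}
  (F : Factors P V W) {a : G} (ha : a ∈ V) (ha1 : a ≠ 1)
include F ha ha1

/-- The data on the residual. -/
theorem exists_residual :
    ∃ (K : Subgroup (Subgroup.centralizer ({a} : Set G))) (_ : K.Normal) (Q : Sylow 2 K),
      K.index = 2 ^ 2 ∧
      (∀ c : Subgroup.centralizer ({a} : Set G), ¬ 2 ∣ orderOf c → c ∈ K) ∧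
      IsKleinFour (Q : Subgroup K) ∧
      (∀ x : K, x ∈ (Q : Subgroup K) ↔ ((x : Subgroup.centralizer ({a} : Set G)) : G) ∈ W) ∧
      (∀ s t : K, orderOf s = 2 → orderOf t = 2 → IsConj s t) ∧
      (∀ c : Subgroup.centralizer ({a} : Set G), ∃ v ∈ (P : Subgroup G), v ∈ V ∧
        ∃ k : K, (c : G) = v * ((k : Subgroup.centralizer ({a} : Set G)) : G)) ∧
      (∀ z ∈ W, ∃ x : K, ((x : Subgroup.centralizer ({a} : Set G)) : G) = z) ∧
      ∀ v : Subgroup.centralizer ({a} : Set G), (v : G) ∈ V →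
        ∀ k : Subgroup.centralizer ({a} : Set G),
          v * k * v⁻¹ * k⁻¹ ∈ oddCore (Subgroup.centralizer ({a} : Set G)) := by
  classical
  have : Fact (Nat.Prime 2) := ⟨Nat.prime_two⟩
  set C := Subgroup.centralizer ({a} : Set G)
  have hle : (P : Subgroup G) ≤ C := le_centralizer F (F.left_le ha)
  set PC : Sylow 2 C := P.subtype hle with hPC
  have hmemPC : ∀ x : C, x ∈ (PC : Subgroup C) ↔ (x : G) ∈ (P : Subgroup G) := fun x => Iff.rfl
  have hcommPC : IsMulCommutative (PC : Subgroup C) :=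
    ⟨⟨fun x y => Subtype.ext (Subtype.ext (commute_of_mem F x.2 y.2))⟩⟩
  set N := Subgroup.normalizer ((PC : Subgroup C) : Set C) with hN
  have hNG : ∀ n ∈ N, (n : G) ∈ Subgroup.normalizer ((P : Subgroup G) : Set G) := by
    intro n hn
    refine Subgroup.mem_normalizer_iff.mpr fun x => ⟨fun hx => ?_, fun hx => ?_⟩
    · exact (Subgroup.mem_normalizer_iff.mp hn ⟨x, hle hx⟩).mp hx
    · have hx' : x ∈ C := by
        have : x = (n : G)⁻¹ * ((n : G) * x * (n : G)⁻¹) * (n : G) := by group
        rw [this]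
        exact mul_mem (mul_mem (inv_mem n.2) (hle hx)) n.2
      exact (Subgroup.mem_normalizer_iff.mp hn ⟨x, hx'⟩).mpr hx
  have hfixV : ∀ n ∈ N, ∀ v ∈ V, (n : G) * v * (n : G)⁻¹ = v := fun n hn v hv =>
    F.fix_left a ha ha1 n (hNG n hn)
      (by rw [(mem_centralizer_singleton.1 n.2).eq, mul_inv_cancel_right]) v hv
  have htrans : ∀ z ∈ W, z ≠ 1 → ∀ z' ∈ W, z' ≠ 1 → ∃ n ∈ N, (n : G) * z * (n : G)⁻¹ = z' := by
    intro z hz hz1 z' hz' hz1'
    obtain ⟨n, hn, hnV, hnz⟩ := F.trans_right z hz hz1 z' hz' hz1'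
    have hnC : n ∈ C := mem_centralizer_singleton.2 (mul_inv_eq_iff_eq_mul.1 (hnV a ha))
    refine ⟨⟨n, hnC⟩, Subgroup.mem_normalizer_iff.mpr fun x => ?_, hnz⟩
    exact Subgroup.mem_normalizer_iff.mp hn (x : G)
  -- the residual meets the Sylow subgroup in `W`
  set K : Subgroup C := pResidual 2 C
  have hKW : (PC : Subgroup C) ⊓ K = W.subgroupOf C := by
    rw [inf_pResidual_eq_commutator_normalizer PC hcommPC]
    refine le_antisymm (Subgroup.commutator_le.2 fun x hx n hn => ?_) ?_
    · obtain ⟨v, hv, z, hz, hxe⟩ := F.split (x : G) hx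
      rw [Subgroup.mem_subgroupOf]
      have h1 := hfixV n hn v hv
      have h2 := (F.stable _ (hNG n hn)).2 z hz
      show ((⁅x, n⁆ : C) : G) ∈ W
      rw [commutatorElement_def]
      simp only [Subgroup.coe_mul, Subgroup.coe_inv]
      rw [show (x : G) * n * (x : G)⁻¹ * (n : G)⁻¹ =
        (x : G) * ((n : G) * x * (n : G)⁻¹)⁻¹ by group, hxe,
        show (n : G) * (v * z) * (n : G)⁻¹ = (n : G) * v * (n : G)⁻¹ * ((n : G) * z * (n : G)⁻¹) by
          group, h1, mul_inv_rev,
        show v * z * (((n : G) * z * (n : G)⁻¹)⁻¹ * v⁻¹) =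
          v * (z * ((n : G) * z * (n : G)⁻¹)⁻¹) * v⁻¹ by group,
        (commute_of_mem F (F.left_le hv) (F.right_le (mul_mem hz (inv_mem h2)))).eq,
        mul_inv_cancel_right]
      exact mul_mem hz (inv_mem h2)
    · intro w hw
      rw [Subgroup.mem_subgroupOf] at hw
      by_cases hw1 : w = 1
      · rw [hw1]; exact one_mem _
      have hw1' : (w : G) ≠ 1 := fun e => hw1 (Subtype.ext e)
      obtain ⟨z, hz, hz1, hzw⟩ : ∃ z ∈ W, z ≠ 1 ∧ z ≠ (w : G) := by
        by_contra hcon
        push Not at hcon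
        have hsub : (W : Set G) ⊆ ({1, (w : G)} : Set G) := fun z hz => by
          by_cases h : z = 1
          · exact Or.inl h
          · exact Or.inr (hcon z hz h)
        have h := Set.ncard_le_ncard hsub
        rw [Set.ncard_pair (Ne.symm hw1'), ← Nat.card_coe_set_eq,
          show Nat.card (W : Set G) = 4 from F.card_right] at h
        omega
      have hzinv : z⁻¹ = z := inv_eq_of_mul_eq_one_right (by
        rw [← sq]; exact F.exp z (F.right_le hz))
      have hz'1 : z * (w : G) ≠ 1 := fun e => hzw (by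
        rw [mul_eq_one_iff_eq_inv] at e
        rw [e]; exact inv_eq_of_mul_eq_one_right (by rw [← sq]; exact F.exp _ (F.right_le hw)))
      obtain ⟨n, hn, hnz⟩ := htrans z hz hz1 (z * (w : G)) (mul_mem hz hw) hz'1
      have hzC : z ∈ C := hle (F.right_le hz)
      have h := Subgroup.commutator_mem_commutator
        (show (⟨z, hzC⟩ : C) ∈ (PC : Subgroup C) from F.right_le hz) hn
      convert h using 1
      refine Subtype.ext ?_
      rw [commutatorElement_def]
      simp only [Subgroup.coe_mul, Subgroup.coe_inv]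
      rw [show z * (n : G) * z⁻¹ * (n : G)⁻¹ = z * ((n : G) * z * (n : G)⁻¹)⁻¹ by group, hnz,
        mul_inv_rev, hzinv, inv_eq_of_mul_eq_one_right (a := (w : G))
          (by rw [← sq]; exact F.exp _ (F.right_le hw)),
        (commute_of_mem F (F.right_le hw) (F.right_le hz)).eq, ← mul_assoc, ← sq,
        F.exp z (F.right_le hz), one_mul]
  have hWC : W ≤ C := F.right_le.trans hle
  have hcardW : Nat.card (W.subgroupOf C) = 4 := by
    rw [Nat.card_congr (Subgroup.subgroupOfEquivOfLe hWC).toEquiv, F.card_right]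
  have hcardPC : Nat.card (PC : Subgroup C) = 16 := by
    rw [← F.card_P]; exact Nat.card_congr (Subgroup.subgroupOfEquivOfLe hle).toEquiv
  -- the index
  have hidx : K.index = 4 := by
    have h2 : K.relIndex (PC : Subgroup C) = K.index := by
      rw [← Subgroup.relIndex_sup_left (PC : Subgroup C) K, pResidual_sup_sylow,
        Subgroup.relIndex_top_right]
    have h3 := (K.subgroupOf (PC : Subgroup C)).card_mul_index
    have h4 : Nat.card (K.subgroupOf (PC : Subgroup C)) = 4 := by
      rw [← Subgroup.inf_subgroupOf_left, Nat.card_congr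
        (Subgroup.subgroupOfEquivOfLe (inf_le_left : (PC : Subgroup C) ⊓ K ≤ PC)).toEquiv, hKW,
        hcardW]
    rw [← Subgroup.relIndex, h2, h4, hcardPC] at h3
    omega
  have hregK : ∀ c : C, ¬ 2 ∣ orderOf c → c ∈ K := fun c hc =>
    mem_pResidual_of_coprime ((Nat.coprime_comm.1 ((Nat.Prime.coprime_iff_not_dvd Nat.prime_two).2 hc)))
  have hWK : W.subgroupOf C ≤ K := hKW ▸ inf_le_right
  -- the Sylow subgroup of the residual
  set Q₀ : Subgroup K := (W.subgroupOf C).subgroupOf K
  have hQcard : Nat.card Q₀ = 4 := by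
    rw [Nat.card_congr (Subgroup.subgroupOfEquivOfLe hWK).toEquiv, hcardW]
  have hQidx : ¬ 2 ∣ Q₀.index := by
    have h1 := Q₀.card_mul_index
    have h2 := K.card_mul_index
    have h3 := (PC : Subgroup C).card_mul_index
    rw [hQcard] at h1
    rw [hidx, ← h1] at h2
    rw [hcardPC, ← h2] at h3
    have h4 : Q₀.index = (PC : Subgroup C).index := by omega
    rw [h4]
    exact PC.not_dvd_index
  set Q : Sylow 2 K := (IsPGroup.of_card (n := 2) (by rw [hQcard]; norm_num) :
    IsPGroup 2 Q₀).toSylow hQidx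
  have hmemQ : ∀ x : K, x ∈ (Q : Subgroup K) ↔ ((x : C) : G) ∈ W := fun x => Iff.rfl
  have hKlein : IsKleinFour (Q : Subgroup K) := by
    refine IsKleinFour.mk ?_ ?_
    · exact hQcard
    · have hne : Nontrivial (Q : Subgroup K) := Finite.one_lt_card_iff_nontrivial.1
        (show 1 < Nat.card Q₀ by omega)
      refine (Monoid.exponent_eq_prime_iff Nat.prime_two).2 fun g hg => ?_
      refine orderOf_eq_prime (Subtype.ext (Subtype.ext (Subtype.ext ?_))) hg
      exact F.exp _ (F.right_le g.2)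
  -- one class of involutions
  have hdec : ∀ c : C, ∃ v ∈ (P : Subgroup G), v ∈ V ∧ ∃ k : K, (c : G) = v * ((k : C) : G) := by
    intro c
    have hc : c ∈ (PC : Subgroup C) ⊔ K := by rw [sup_comm, pResidual_sup_sylow]; trivial
    obtain ⟨x, hx, k, hk, rfl⟩ := Subgroup.mem_sup_of_normal_right.1 hc
    obtain ⟨v, hv, z, hz, hxe⟩ := F.split (x : G) hx
    have hzK : (⟨z, hWC hz⟩ : C) ∈ K := hWK (show z ∈ W from hz)
    exact ⟨v, F.left_le hv, hv, ⟨_, mul_mem hzK hk⟩, by
      simp only [Subgroup.coe_mul]; rw [hxe, mul_assoc]⟩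
  have hone : ∀ s t : K, orderOf s = 2 → orderOf t = 2 → IsConj s t := by
    have key : ∀ s : K, orderOf s = 2 → ∀ z₀ : K, z₀ ∈ (Q : Subgroup K) → z₀ ≠ 1 → IsConj s z₀ := by
      intro s hs z₀ hz₀ hz₀1
      obtain ⟨R, hR⟩ := (IsPGroup.of_card (n := 1) (by rw [Nat.card_zpowers, hs, pow_one]) :
        IsPGroup 2 (Subgroup.zpowers s)).exists_le_sylow
      obtain ⟨k, hk⟩ := MulAction.exists_smul_eq K R Q
      have hmem : k * s * k⁻¹ ∈ (Q : Subgroup K) := by
        rw [← hk, Sylow.coe_subgroup_smul]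
        exact ⟨s, hR (Subgroup.mem_zpowers s), by simp⟩
      have hs1 : ((k * s * k⁻¹ : K) : C) ≠ 1 := fun e => by
        have e' : k * s * k⁻¹ = 1 := Subtype.ext e
        rw [conj_eq_one_iff.1 e', orderOf_one] at hs
        omega
      obtain ⟨n, hn, hnz⟩ := htrans _ ((hmemQ _).1 hmem) (fun e => hs1 (Subtype.ext e)) _
        ((hmemQ _).1 hz₀) (fun e => hz₀1 (Subtype.ext (Subtype.ext e)))
      obtain ⟨v, hv, -, l, hl⟩ := hdec n
      have hfix : v⁻¹ * (((z₀ : K) : C) : G) * v = ((z₀ : C) : G) := by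
        rw [mul_assoc, (commute_of_mem F (F.right_le ((hmemQ _).1 hz₀)) hv).eq, inv_mul_cancel_left]
      refine isConj_iff.2 ⟨l * k, Subtype.ext (Subtype.ext ?_)⟩
      rw [hl] at hnz
      simp only [Subgroup.coe_mul, Subgroup.coe_inv] at hnz ⊢
      rw [← hfix, ← hnz]
      group
    obtain ⟨⟨z₀, hz₀⟩, hz₀'⟩ := Subgroup.ne_bot_iff_exists_ne_one.1
      (show (Q : Subgroup K) ≠ ⊥ from fun e => by
        have := hQcard
        rw [show Q₀ = ⊥ from e, Subgroup.card_bot] at this
        omega)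
    intro s t hs ht
    exact (key s hs z₀ hz₀ fun e => hz₀' (Subtype.ext e)).trans
      (key t ht z₀ hz₀ fun e => hz₀' (Subtype.ext e)).symm
  -- `V` is central modulo the odd core
  have hV : ∀ v : C, (v : G) ∈ V → ∀ k : C, v * k * v⁻¹ * k⁻¹ ∈ oddCore C := by
    intro v hv k
    refine ZStar.commutator_mem_oddCore_of_fixed PC (x := v) ⟨F.left_le hv, fun g j hg => ?_⟩ k
    obtain ⟨n, hn, hne⟩ := exists_normalizer_conj_of_isMulCommutative PC hcommPC
      (X := {v ^ j}) (Set.singleton_subset_iff.2 (pow_mem (show v ∈ (PC : Subgroup C) from F.left_le hv) j))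
      (g := g⁻¹) (by
        rw [Set.image_singleton, Set.singleton_subset_iff, inv_inv]; exact hg)
    have h1 := hne (v ^ j) rfl
    rw [inv_inv] at h1
    rw [← h1]
    refine Subtype.ext ?_
    simp only [Subgroup.coe_mul, Subgroup.coe_inv]
    have h2 := hfixV n⁻¹ (inv_mem hn) ((v ^ j : C) : G) (by rw [SubmonoidClass.coe_pow]; exact pow_mem hv j)
    simpa using h2
  exact ⟨K, inferInstance, Q, hidx, hregK, hKlein, hmemQ, hone, hdec,
    fun z hz => ⟨⟨⟨z, hWC hz⟩, hWK (show z ∈ W from hz)⟩, rfl⟩, hV⟩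

end CfsgLib.SixteenNine
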