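import Cfsg.Agent.Lib.Blocks.SixteenNine.Residual
import Cfsg.Agent.Lib.Blocks.SixteenNine.Klein
import Cfsg.Agent.Lib.Blocks.Covering
import Cfsg.Agent.Lib.Blocks.MajorSubsection

/-!
# The columns at an involution of one factor

Four class functions on the centralizer whose pairings with the characters are, on the principal
block, integers less a quarter of the value at a mixed involution.
-/

set_option autoImplicit false

namespace CfsgLib.SixteenNine

open Cfsg CfsgLib.Blocks CfsgLib.Char
open scoped ComplexConjugate Classical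

/-- A member of a kernel does not move the values. -/
theorem apply_mul_of_mem_kernel {H : Type*} [Group H] [Fintype H] (N : Subgroup H) [N.Normal]
    {χ : IrrCharacter H} (h : ∀ n ∈ N, (χ : H → ℂ) n = (χ : H → ℂ) 1) {n : H} (hn : n ∈ N) (k : H) :
    (χ : H → ℂ) (n * k) = (χ : H → ℂ) k := by
  obtain ⟨χ', rfl⟩ := exists_inflate_eq N χ h
  rw [inflate_apply, inflate_apply]
  rw [QuotientGroup.mk_mul, (QuotientGroup.eq_one_iff n).2 hn, one_mul]

/-- The coefficients of a translate by a central involution are integers. -/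
theorem exists_int_translate {H : Type*} [Group H] [Fintype H] {θ : H → ℂ} (hθ : IsCharacter H θ)
    (K : Subgroup H) {z : H} (hz : ∀ g : H, g * z = z * g) (hz2 : orderOf z = 2)
    (ψ : IrrCharacter K) :
    ∃ m : ℤ, classInner (fun k : K => θ (z * (k : H))) (ψ : K → ℂ) = m := by
  have := Fintype.ofFinite (IrrCharacter H)
  have hcl : IsClassFunction H θ := Char.IsChar.isClassFunction hθ
  have hn : ∀ Ψ : IrrCharacter H, ∃ n : ℕ, classInner θ (Ψ : H → ℂ) = n := fun Ψ =>
    Char.IsChar.classInner_eq_natCast hθ (Char.IsIrr.isCharacter Ψ.2)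
  choose n hn using hn
  have hlam : ∀ Ψ : IrrCharacter H, ∃ t : ℤ, ∀ k : H, (Ψ : H → ℂ) (z * k) = (t : ℂ) * (Ψ : H → ℂ) k := by
    intro Ψ
    have h1 := Char.IsIrr.apply_one_ne_zero Ψ.2
    have hsq := apply_central_mul Ψ hz z
    rw [show z * z = 1 by rw [← sq, ← hz2, pow_orderOf_eq_one]] at hsq
    obtain h2 | h2 := mul_self_eq_mul_self_iff.1 hsq
    · exact ⟨1, fun k => by
        have h := apply_central_mul Ψ hz k
        rw [← h2, mul_comm ((Ψ : H → ℂ) 1)] at h
        rw [Int.cast_one, one_mul]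
        exact mul_right_cancel₀ h1 h⟩
    · exact ⟨-1, fun k => by
        have h := apply_central_mul Ψ hz k
        rw [h2] at h h1
        rw [Int.cast_neg, Int.cast_one, neg_one_mul]
        refine mul_right_cancel₀ h1 ?_
        linear_combination h⟩
  choose t ht using hlam
  have hres : ∀ Ψ : IrrCharacter H, ∃ j : ℕ,
      classInner (fun k : K => (Ψ : H → ℂ) k) (ψ : K → ℂ) = j := fun Ψ =>
    Char.IsChar.classInner_eq_natCast (Char.IsChar.restrict K (Char.IsIrr.isCharacter Ψ.2))
      (Char.IsIrr.isCharacter ψ.2)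
  choose j hj using hres
  refine ⟨∑ Ψ : IrrCharacter H, (n Ψ : ℤ) * t Ψ * j Ψ, ?_⟩
  push_cast
  rw [Finset.sum_congr rfl fun Ψ _ => by rw [← hj Ψ, classInner, ← mul_assoc, mul_comm _ (_⁻¹ : ℂ),
    mul_assoc (_⁻¹ : ℂ), Finset.mul_sum], classInner, ← Finset.mul_sum, Finset.sum_comm]
  congr 1
  refine Finset.sum_congr rfl fun k _ => ?_
  rw [classFunction_apply_eq_sum hcl, Finset.sum_mul]
  exact Finset.sum_congr rfl fun Ψ _ => by rw [ht, hn]; ring

variable {G : Type*} [Group G] [Fintype G] {P : Sylow 2 G} {V W : Subgroup G}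

set_option maxHeartbeats 1600000 in
/-- The columns. -/
theorem exists_side (F : Factors P V W) {M : Ideal AlgInt} [M.IsPrime] (hM : IsPModular 2 M)
    {a z₀ : G} (ha : a ∈ V) (ha1 : a ≠ 1) (hz₀ : z₀ ∈ W) (hz₀1 : z₀ ≠ 1) :
    ∃ h : Fin 4 → Subgroup.centralizer ({a} : Set G) → ℂ,
      (∀ i, IsClassFunction (Subgroup.centralizer ({a} : Set G)) (h i)) ∧
      (∀ χ : IrrCharacter G, χ ∉ principalBlock M G → ∀ i,
        pairing 2 a (fun y => conj (h i y)) (χ : G → ℂ) = 0) ∧
      (∀ χ : IrrCharacter G, χ ∈ principalBlock M G → ∀ i, ∃ s : ℤ,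
        pairing 2 a (fun y => conj (h i y)) (χ : G → ℂ) = (s : ℂ) - (χ : G → ℂ) (a * z₀) / 4) ∧
      (∀ χ : IrrCharacter G, ∑ i, pairing 2 a (fun y => conj (h i y)) (χ : G → ℂ) = 0) ∧
      (∀ i j, (Nat.card (Subgroup.centralizer ({a} : Set G)) : ℂ) *
        ∑ y ∈ Finset.univ.filter
          (fun y : Subgroup.centralizer ({a} : Set G) => ¬ 2 ∣ orderOf y),
          conj (h i y) * h j y = (if i = j then 4 else 0) - 1) ∧
      ∀ χ : IrrCharacter G, χ ∈ principalBlock M G →
        4 * ∑ y ∈ Finset.univ.filter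
            (fun y : Subgroup.centralizer ({a} : Set G) => ¬ 2 ∣ orderOf y),
          (χ : G → ℂ) (a * (y : G)) * conj ((χ : G → ℂ) (a * (y : G))) =
        (Nat.card (Subgroup.centralizer ({a} : Set G)) : ℂ) *
          ∑ i, pairing 2 a (fun y => conj (h i y)) (χ : G → ℂ) *
            conj (pairing 2 a (fun y => conj (h i y)) (χ : G → ℂ)) := by
  have : Fact (Nat.Prime 2) := ⟨Nat.prime_two⟩
  obtain ⟨K, hKn, Q, hidx, hregK, hQ, hmemQ, hone, hdec, hWK, hcent⟩ := exists_residual F ha ha1
  obtain ⟨k₀, hk₀⟩ := hWK z₀ hz₀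
  have hk₀Q : k₀ ∈ (Q : Subgroup K) := (hmemQ k₀).2 (hk₀ ▸ hz₀)
  have hk₀1 : k₀ ≠ 1 := fun e => hz₀1 (by rw [← hk₀, e]; rfl)
  have hk₀2 : orderOf k₀ = 2 := orderOf_eq_two_of_mem_klein Q hQ hk₀Q hk₀1
  obtain ⟨ψ, ε, hinj, hrange, hε, hval, hgram, hker⟩ :=
    exists_columns Q hQ hone hM hk₀Q hk₀2
  have hK0 : (Nat.card K : ℂ) ≠ 0 := Nat.cast_ne_zero.2 Nat.card_pos.ne'
  have hCK : (Nat.card (Subgroup.centralizer ({a} : Set G)) : ℂ) = 4 * (Nat.card K : ℂ) := by
    rw [← K.card_mul_index, hidx]; push_cast; ring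
  have hεc : ∀ i, (ε i : ℂ) * (ε i : ℂ) = 1 := fun i => by exact_mod_cast hε i
  -- the invariance of the principal characters of the residual
  set O := (oddCore (Subgroup.centralizer ({a} : Set G))).subgroupOf K with hO
  have hOodd : ¬ 2 ∣ Nat.card O := by
    intro hd
    have h1 := hd.trans (Subgroup.card_comap_dvd_of_injective
      (oddCore (Subgroup.centralizer ({a} : Set G))) K.subtype K.subtype_injective)
    exact (Nat.not_even_iff_odd.2 (ZStar.odd_card_oddCore _)) (even_iff_two_dvd.2 h1)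
  have hinvψ : ∀ i, ∀ d c : Subgroup.centralizer ({a} : Set G), ∀ (hc : c ∈ K),
      (ψ i : K → ℂ) ⟨d * c * d⁻¹, hKn.conj_mem c hc d⟩ = (ψ i : K → ℂ) ⟨c, hc⟩ := by
    intro i d c hc
    obtain ⟨v, hvP, hvV, l, hl⟩ := hdec d
    set v' : Subgroup.centralizer ({a} : Set G) := ⟨v, le_centralizer F (F.left_le ha) hvP⟩
    have hd : d = v' * (l : Subgroup.centralizer ({a} : Set G)) := Subtype.ext hl
    subst hd
    set k : K := l * ⟨c, hc⟩ * l⁻¹
    have hn : v' * (k : Subgroup.centralizer ({a} : Set G)) * v'⁻¹ *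
        (k : Subgroup.centralizer ({a} : Set G))⁻¹ ∈ K :=
      mul_mem (hKn.conj_mem _ k.2 _) (inv_mem k.2)
    have hnO : (⟨_, hn⟩ : K) ∈ O := hcent v' hvV (k : Subgroup.centralizer ({a} : Set G))
    have hcl := Char.IsIrr.isClassFunction (ψ i).2 (⟨c, hc⟩ : K) l
    refine Eq.trans ?_ hcl
    refine Eq.trans (congrArg (ψ i : K → ℂ) ?_) (apply_mul_of_mem_kernel O
      (apply_eq_of_mem_principalBlock O hM hOodd ((hrange _).2 ⟨i, rfl⟩)) hnO k)
    refine Subtype.ext ?_
    simp only [k, Subgroup.coe_mul, Subgroup.coe_inv]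
    group
  -- the class functions
  set h : Fin 4 → Subgroup.centralizer ({a} : Set G) → ℂ := fun i c =>
    if hc : c ∈ K then (ε i : ℂ) / (Nat.card K : ℂ) * (ψ i : K → ℂ) ⟨c, hc⟩ else 0 with hh
  have hhK : ∀ i (k : K), h i (k : Subgroup.centralizer ({a} : Set G)) =
      (ε i : ℂ) / (Nat.card K : ℂ) * (ψ i : K → ℂ) k := fun i k => by
    simp [hh, k.2]
  have hcls : ∀ i, IsClassFunction (Subgroup.centralizer ({a} : Set G)) (h i) := by
    intro i c d
    by_cases hc : c ∈ K
    · simp only [hh, dif_pos hc, dif_pos (hKn.conj_mem c hc d), hinvψ i d c hc]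
    · have hc' : d * c * d⁻¹ ∉ K := fun e => hc (by
        have := hKn.conj_mem _ e d⁻¹
        simpa [mul_assoc] using this)
      simp only [hh, dif_neg hc, dif_neg hc']
  -- regular elements
  have hregsum : ∀ f : Subgroup.centralizer ({a} : Set G) → ℂ,
      ∑ y ∈ Finset.univ.filter (fun y : Subgroup.centralizer ({a} : Set G) => ¬ 2 ∣ orderOf y), f y =
      ∑ k ∈ Finset.univ.filter (fun k : K => ¬ 2 ∣ orderOf k),
        f (k : Subgroup.centralizer ({a} : Set G)) := by
    intro f
    symm
    refine Finset.sum_bij (fun k _ => (k : Subgroup.centralizer ({a} : Set G))) (fun k hk => ?_)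
      (fun k _ k' _ e => Subtype.ext e) (fun y hy => ?_) fun k _ => rfl
    · simpa [Subgroup.orderOf_coe] using hk
    · have hy' : ¬ 2 ∣ orderOf y := (Finset.mem_filter.1 hy).2
      exact ⟨⟨y, hregK y hy'⟩, by simpa using hy', rfl⟩
  have hq : ∀ (χ : IrrCharacter G) i, pairing 2 a (fun y => conj (h i y)) (χ : G → ℂ) =
      (ε i : ℂ) / (Nat.card K : ℂ) * ∑ k ∈ Finset.univ.filter (fun k : K => ¬ 2 ∣ orderOf k),
        (χ : G → ℂ) (a * ((k : Subgroup.centralizer ({a} : Set G)) : G)) * conj ((ψ i : K → ℂ) k) := by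
    intro χ i
    rw [pairing, hregsum, Finset.mul_sum]
    refine Finset.sum_congr rfl fun k _ => ?_
    rw [hhK, map_mul, map_div₀, map_intCast, map_natCast]
    ring
  -- constituents
  have htrivK : classInner (fun k : K => ((Char.trivChar (Subgroup.centralizer ({a} : Set G)) :
      IrrCharacter _) : Subgroup.centralizer ({a} : Set G) → ℂ) k)
      ((Char.trivChar K : IrrCharacter K) : K → ℂ) ≠ 0 := by
    rw [show (fun k : K => ((Char.trivChar (Subgroup.centralizer ({a} : Set G)) :
      IrrCharacter _) : Subgroup.centralizer ({a} : Set G) → ℂ) k) =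
      ((Char.trivChar K : IrrCharacter K) : K → ℂ) from rfl, classInner_irr_self]
    exact one_ne_zero
  have hxa : ∃ k : ℕ, orderOf a = 2 ^ k := exists_orderOf F (F.left_le ha)
  refine ⟨h, hcls, fun χ hχ i => ?_, fun χ hχ i => ?_, fun χ => ?_, fun i j => ?_, fun χ hχ => ?_⟩
  · refine pairing_eq_zero hM hxa (hcls i) (fun Ψ hΨ => ?_) hχ
    refine sameBlock_of_constituent K hM hidx htrivK ?_
      (show SameBlock M _ ((ψ i : IrrCharacter K) : K → ℂ) from (hrange _).2 ⟨i, rfl⟩)
    intro hz
    refine hΨ ?_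
    have hsum : ∑ c, h i c * conj ((Ψ : Subgroup.centralizer ({a} : Set G) → ℂ) c) =
        (ε i : ℂ) / (Nat.card K : ℂ) * conj (∑ k : K,
          (Ψ : Subgroup.centralizer ({a} : Set G) → ℂ) k * conj ((ψ i : K → ℂ) k)) := by
      rw [← Finset.sum_subset (Finset.subset_univ (Finset.univ.filter (· ∈ K))) fun c _ hc => by
          rw [hh]; simp only [Finset.mem_filter, Finset.mem_univ, true_and] at hc
          simp [hc],
        Finset.sum_subtype (p := (· ∈ K)) _ (fun c => by simp), map_sum, Finset.mul_sum]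
      refine Finset.sum_congr rfl fun k _ => ?_
      rw [hhK, map_mul, Complex.conj_conj]
      ring
    rw [classInner, mul_eq_zero, or_iff_right (inv_ne_zero hK0)] at hz
    rw [classInner, hsum, hz, map_zero, mul_zero, mul_zero]
  · obtain ⟨m, hm⟩ := exists_int_translate
      (Char.IsChar.restrict (Subgroup.centralizer ({a} : Set G)) (Char.IsIrr.isCharacter χ.2)) K
      (z := ⟨a, mem_centralizer_singleton.2 (Commute.refl a)⟩)
      (fun g => Subtype.ext (mem_centralizer_singleton.1 g.2).eq)
      (by rw [← Subgroup.orderOf_coe]; exact orderOf_eq_two F (F.left_le ha) ha1) (ψ i)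
    refine ⟨ε i * m, ?_⟩
    rw [classInner, inv_mul_eq_iff_eq_mul₀ hK0] at hm
    have hsing := sum_singular Q hQ hone hk₀Q hk₀2
      (f := fun k : K => (χ : G → ℂ) (a * ((k : Subgroup.centralizer ({a} : Set G)) : G)) *
        conj ((ψ i : K → ℂ) k)) (w := (χ : G → ℂ) (a * z₀) * (ε i : ℂ))
      (fun g d => by
        show (χ : G → ℂ) _ * conj ((ψ i : K → ℂ) _) = _
        rw [Char.IsIrr.isClassFunction (ψ i).2,
          show a * (((d * g * d⁻¹ : K) : Subgroup.centralizer ({a} : Set G)) : G) =
            ((d : Subgroup.centralizer ({a} : Set G)) : G) *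
              (a * ((g : Subgroup.centralizer ({a} : Set G)) : G)) *
              ((d : Subgroup.centralizer ({a} : Set G)) : G)⁻¹ by
            simp only [Subgroup.coe_mul, Subgroup.coe_inv]
            rw [← mul_assoc _ a, (mem_centralizer_singleton.1
              (d : Subgroup.centralizer ({a} : Set G)).2).eq]
            group,
          Char.IsIrr.isClassFunction χ.2])
      (fun y hy => by
        rw [hval i y hy, map_intCast]
        congr 1
        have hy' : (((y : K) : Subgroup.centralizer ({a} : Set G)) : G) ∈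
            Subgroup.centralizer ({a * z₀} : Set G) := by
          refine mem_centralizer_singleton.2 (Commute.mul_right
            (mem_centralizer_singleton.1 ((y : K) : Subgroup.centralizer ({a} : Set G)).2) ?_)
          rw [← hk₀]
          exact ((mem_centralizer_singleton.1 y.2).map K.subtype).map
            (Subgroup.centralizer ({a} : Set G)).subtype
        have := apply_mul_mixed F hM ha ha1 hz₀ hz₀1 hχ (y := ⟨_, hy'⟩)
          (by rwa [Subgroup.orderOf_mk, Subgroup.orderOf_coe, Subgroup.orderOf_coe,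
            Subgroup.orderOf_coe])
        rw [← this]
        simp only [Subgroup.coe_mul, hk₀, mul_assoc])
    have hsplit := Finset.sum_filter_add_sum_filter_not Finset.univ (fun g : K => 2 ∣ orderOf g)
      (fun k : K => (χ : G → ℂ) (a * ((k : Subgroup.centralizer ({a} : Set G)) : G)) *
        conj ((ψ i : K → ℂ) k))
    rw [show ∑ k : K, (χ : G → ℂ) (a * ((k : Subgroup.centralizer ({a} : Set G)) : G)) *
        conj ((ψ i : K → ℂ) k) = (Nat.card K : ℂ) * m from hm] at hsplit
    rw [hq]
    push_cast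
    rw [div_mul_eq_mul_div, div_eq_iff hK0]
    linear_combination (ε i : ℂ) * hsplit - (ε i : ℂ) / 4 * hsing -
      ((χ : G → ℂ) (a * z₀) * (Nat.card K : ℂ) / 4) * hεc i
  · simp only [hq, Finset.mul_sum]
    rw [Finset.sum_comm]
    refine Finset.sum_eq_zero fun k hk => ?_
    have h0 := congrArg conj (hker k (Finset.mem_filter.1 hk).2)
    rw [map_sum, map_zero] at h0
    rw [← mul_zero ((χ : G → ℂ) (a * ((k : Subgroup.centralizer ({a} : Set G)) : G)) /
      (Nat.card K : ℂ)), ← h0, Finset.mul_sum]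
    exact Finset.sum_congr rfl fun i _ => by rw [map_mul, map_intCast]; ring
  · rw [hregsum]
    rw [Finset.sum_congr rfl (g := fun k : K => ((ε i : ℂ) * (ε j : ℂ) / (Nat.card K : ℂ) ^ 2) *
      ((ψ j : K → ℂ) k * conj ((ψ i : K → ℂ) k))) fun k _ => by
        rw [hhK, hhK, map_mul, map_div₀, map_intCast, map_natCast]; ring,
      ← Finset.mul_sum, hgram, hCK]
    by_cases hij : i = j
    · subst hij
      rw [if_pos rfl, if_pos rfl, hεc]
      field_simp
    · rw [if_neg hij, if_neg (Ne.symm hij)]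
      field_simp
      linear_combination -((ε j : ℂ) * (ε j : ℂ)) * hεc i - hεc j
  · -- the restriction lies in the span of the four columns
    obtain ⟨c, hc⟩ : ∃ c : Fin 4 → ℂ, ∀ k : K, ¬ 2 ∣ orderOf k →
        (χ : G → ℂ) (a * ((k : Subgroup.centralizer ({a} : Set G)) : G)) =
          ∑ l, c l * (ψ l : K → ℂ) k := by
      have := Fintype.ofFinite (IrrCharacter K)
      let T := (Set.toFinite (principalBlock M (Subgroup.centralizer ({a} : Set G)))).toFinset
      refine ⟨fun l => ∑ Ψ ∈ T, classInner (fun y : Subgroup.centralizer ({a} : Set G) =>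
        (χ : G → ℂ) (a * (y : G))) (Ψ : Subgroup.centralizer ({a} : Set G) → ℂ) *
          classInner (fun k : K => (Ψ : Subgroup.centralizer ({a} : Set G) → ℂ) k) (ψ l : K → ℂ),
        fun k hk => ?_⟩
      have hk' : ¬ 2 ∣ orderOf (k : Subgroup.centralizer ({a} : Set G)) := by
        rwa [Subgroup.orderOf_coe]
      have h1 := blockPart_principal_translate hM hxa χ hk'
      rw [if_pos hχ] at h1
      rw [← h1, blockPart_eq, finsum_mem_eq_finite_toFinset_sum _ (Set.toFinite _)]
      simp only [Finset.sum_mul]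
      rw [Finset.sum_comm (s := (Finset.univ : Finset (Fin 4)))]
      refine Finset.sum_congr rfl fun Ψ hΨ => ?_
      simp only [mul_assoc, ← Finset.mul_sum]
      congr 1
      have hres : IsClassFunction K (fun k : K => (Ψ : Subgroup.centralizer ({a} : Set G) → ℂ) k) :=
        fun g d => Char.IsIrr.isClassFunction Ψ.2 _ _
      refine (classFunction_apply_eq_sum hres k).trans ?_
      rw [← Finset.sum_subset (Finset.subset_univ (Finset.univ.image ψ)) fun θ _ hθ => ?_,
        Finset.sum_image hinj.injOn]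
      by_contra hne
      refine hθ ?_
      obtain ⟨g, hg⟩ := exists_conj_of_sameBlock K
        (show SameBlock M ((Char.trivChar (Subgroup.centralizer ({a} : Set G)) : IrrCharacter _) :
          Subgroup.centralizer ({a} : Set G) → ℂ) (Ψ : Subgroup.centralizer ({a} : Set G) → ℂ) from
          (Set.Finite.mem_toFinset _).1 hΨ) htrivK (θ' := θ) (fun e => hne (by rw [e, zero_mul]))
      rw [show Blocks.conjIrr K g (Char.trivChar K) = Char.trivChar K from
        Subtype.ext (funext fun n => rfl)] at hg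
      obtain ⟨l, hl⟩ := (hrange θ).1 hg
      exact Finset.mem_image.2 ⟨l, Finset.mem_univ _, hl⟩
    set E : ℂ := ∑ l, (ε l : ℂ) * c l
    have hqc : ∀ i, pairing 2 a (fun y => conj (h i y)) (χ : G → ℂ) = (ε i : ℂ) * c i - E / 4 := by
      intro i
      rw [hq, Finset.sum_congr rfl fun k hk => by
        rw [hc k (Finset.mem_filter.1 hk).2, Finset.sum_mul], Finset.sum_comm]
      simp only [mul_assoc, ← Finset.mul_sum, hgram]
      rw [Finset.mul_sum]
      simp only [E, Finset.sum_div]
      rw [Finset.sum_congr rfl (g := fun l => (if l = i then (ε i : ℂ) * c l else 0) -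
        (ε l : ℂ) * c l / 4) fun l _ => ?_, Finset.sum_sub_distrib, Finset.sum_ite_eq',
        if_pos (Finset.mem_univ i)]
      · have hN : (Nat.card K : ℂ) ≠ 0 := hK0
        rw [show ∀ x : ℂ, (ε i : ℂ) / (Nat.card K : ℂ) * (c l * ((Nat.card K : ℂ) * x)) =
          (ε i : ℂ) * c l * x from fun x => by field_simp]
        split_ifs with hl
        · linear_combination (-((ε l : ℂ) * c l) / 4) * hεc i
        · linear_combination (-((ε l : ℂ) * c l) / 4) * hεc i
    rw [hregsum, hCK]
    have hnorm : ∑ k ∈ Finset.univ.filter (fun k : K => ¬ 2 ∣ orderOf k),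
        (χ : G → ℂ) (a * ((k : Subgroup.centralizer ({a} : Set G)) : G)) *
          conj ((χ : G → ℂ) (a * ((k : Subgroup.centralizer ({a} : Set G)) : G))) =
        (Nat.card K : ℂ) * ((∑ l, c l * conj (c l)) - E * conj E / 4) := by
      rw [Finset.sum_congr rfl (g := fun k : K => ∑ l, ∑ l', (c l * conj (c l')) *
        ((ψ l : K → ℂ) k * conj ((ψ l' : K → ℂ) k))) fun k hk => ?_, Finset.sum_comm]
      · rw [Finset.sum_congr rfl fun l _ => Finset.sum_comm]
        simp only [← Finset.mul_sum, hgram]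
        simp only [E, Fin.sum_univ_four, map_add, map_mul, map_intCast]
        simp only [Fin.isValue, Fin.reduceEq, if_true, if_false]
        ring
      · rw [hc k (Finset.mem_filter.1 hk).2, map_sum, Finset.sum_mul_sum]
        refine Finset.sum_congr rfl fun l _ => Finset.sum_congr rfl fun l' _ => ?_
        rw [map_mul]; ring
    rw [hnorm]
    simp only [hqc, E, Fin.sum_univ_four, map_add, map_sub, map_mul, map_div₀, map_intCast, map_ofNat]
    have e0 := hεc 0; have e1 := hεc 1; have e2 := hεc 2; have e3 := hεc 3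
    linear_combination (-4 * (Nat.card K : ℂ)) * (c 0 * conj (c 0) * e0 + c 1 * conj (c 1) * e1 +
      c 2 * conj (c 2) * e2 + c 3 * conj (c 3) * e3)

end CfsgLib.SixteenNine
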